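import Cfsg.Agent.H97.TypeR.FieldPart
import Cfsg.Agent.H28.TypeR.Blocks

/-!
# Type R: the Sylow subgroup `⟨t⟩ × V` for the block computation

`N(S)` fuses its involutions and fixes every linear function on the odd part of `C(S)`.
-/

set_option autoImplicit false
set_option linter.unusedSectionVars false

namespace Cfsg.Agent.H28.TypeR.Data

open Subgroup Cfsg.Agent
open Cfsg.Agent.H84.Ward (TData)

universe u v

variable {G : Type u} [Group G] [Fintype G] {F : Type} [Field F] [Fintype F] (D : Data G F)
variable {L : Type v} [Group L] [Fintype L]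

theorem two_pow_le_card_syl : 2 ^ (Nat.card G).factorization 2 ≤ Nat.card ↥D.syl := by
  obtain ⟨T, hT⟩ := D.exists_sylow_eq
  rw [← hT, T.card_eq_multiplicity]

/-- The involutions of `S` are fused to `t` by elements fixing every `l`. -/
theorem fused_syl (T : TData G L) (hT : T.t = D.t) (l : L →* ℂˣ) : Blocks.Fused T D.syl l := by
  intro s hs ho
  obtain ⟨n, hn, hnt, hfix⟩ := D.exists_normalizer_fix hs ho
  refine ⟨n, hn, by rw [hT, hnt], fun a b hodd hc hb => ?_⟩
  have hy := D.mem_Fo_of_odd hc (hodd.of_dvd_nat ((orderOf_map_dvd T.emb (1, a)).trans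
    (by rw [Prod.orderOf]; simp)))
  rw [(hfix _ hy).eq, mul_inv_cancel_right] at hb
  exact congrArg l (Prod.ext_iff.1 (T.emb_injective hb)).2

end Cfsg.Agent.H28.TypeR.Data
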