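import Cfsg.Agent.H97.TypeR.FieldPart
import Cfsg.Agent.H56.CTwoAb.Small
import Cfsg.Agent.Coprime.Generation

/-!
# Type R: the centraliser of an element of the field part

Its involutions form one class and its normal subgroups of odd order lie in the field part.
-/

set_option autoImplicit false
set_option linter.unusedSectionVars false
set_option linter.style.haveILetI false

namespace Cfsg.Agent.H97.TypeR

open Subgroup Cfsg.Agent

/-- A group `PSL₂(K)`, `K` odd, with a four group and an element moving it inside has no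
non-trivial normal subgroup of odd order. -/
theorem odd_normal_eq_bot {A : Type*} [Group A] [Finite A] {K : Type} [Field K] [Fintype K]
    (hK : Fintype.card K % 2 = 1) (e : A ≃* H56.PSLn 2 K) {V : Subgroup A} (hV : Nat.card ↥V = 4)
    {q v : A} (hv : v ∈ V) (hq : q ∈ normalizer (V : Set A)) (hne : q * v * q⁻¹ ≠ v)
    (hcomm : ∀ a ∈ V, ∀ b ∈ V, a * b = b * a)
    (R : Subgroup A) [R.Normal] (hR : Odd (Nat.card ↥R)) : R = ⊥ := by
  classical
  have hd : Disjoint R V := by
    rw [disjoint_iff]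
    refine inf_eq_bot_of_coprime ?_
    rw [hV, show (4 : ℕ) = 2 ^ 2 by norm_num]
    exact Nat.Coprime.pow_right 2 (Nat.coprime_two_right.2 hR)
  have hc2 := H56.CTwoAb.card_psl_two_odd (F := K) hK
  have h3 : 3 ≤ Fintype.card K := by
    have := Fintype.one_lt_card (α := K)
    omega
  by_cases h5 : Fintype.card K = 3
  · by_contra hne1
    have hA : Nat.card A = 12 := by
      rw [Nat.card_congr e.toEquiv]
      rw [h5] at hc2
      have h24 : 2 * Nat.card (H56.PSLn 2 K) = 2 * 12 := hc2.trans (by norm_num)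
      exact Nat.eq_of_mul_eq_mul_left two_pos h24
    have hR3 : Nat.card ↥R = 3 := by
      have hdv : Nat.card ↥R ∣ 12 := hA ▸ card_subgroup_dvd_card R
      have hdv3 : Nat.card ↥R ∣ 3 := (Nat.Coprime.dvd_mul_left
        (Nat.Coprime.pow_right 2 (Nat.coprime_two_right.2 hR))).1
        (by norm_num; exact hdv : Nat.card ↥R ∣ 2 ^ 2 * 3)
      rcases (Nat.dvd_prime Nat.prime_three).1 hdv3 with h | h
      · exact absurd (Subgroup.eq_bot_of_card_eq R h) hne1
      · exact h
    have hcomp : IsComplement' R V := isComplement'_of_card_mul_and_disjoint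
      (by rw [hR3, hV, hA]) hd
    obtain ⟨⟨⟨r, hr⟩, ⟨w, hw⟩⟩, hrw⟩ := hcomp.2 q
    have hrw' : r * w = q := hrw
    have hrn : r ∈ normalizer (V : Set A) := by
      rw [show r = q * w⁻¹ by rw [← hrw', mul_inv_cancel_right]]
      exact mul_mem hq (le_normalizer (inv_mem hw))
    have hrv : r * v * r⁻¹ * v⁻¹ = 1 := by
      have hm : r * v * r⁻¹ * v⁻¹ ∈ R ⊓ V := by
        refine mem_inf.2 ⟨?_, mul_mem ((mem_normalizer_iff.1 hrn v).1 hv) (inv_mem hv)⟩
        rw [show r * v * r⁻¹ * v⁻¹ = r * (v * r⁻¹ * v⁻¹) by group]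
        exact mul_mem hr ((inferInstance : R.Normal).conj_mem _ (inv_mem hr) v)
      rwa [hd.eq_bot, mem_bot] at hm
    refine hne ?_
    rw [← hrw', show r * w * v * (r * w)⁻¹ = r * (w * v * w⁻¹) * r⁻¹ by group,
      hcomm w hw v hv, mul_inv_cancel_right]
    exact mul_inv_eq_one.1 hrv
  · haveI : IsSimpleGroup (H56.PSLn 2 K) :=
      Linear.isSimpleGroup_PSL_fin le_rfl fun _ => by rw [Nat.card_eq_fintype_card]; omega
    haveI : Nontrivial A := e.toEquiv.nontrivial
    haveI : IsSimpleGroup A :=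
      IsSimpleGroup.isSimpleGroup_of_surjective e.symm.toMonoidHom e.symm.surjective
    rcases Normal.eq_bot_or_eq_top (inferInstance : R.Normal) with h | h
    · exact h
    · exfalso
      subst h
      have : V = ⊥ := by simpa using hd.eq_bot
      rw [this, Subgroup.card_bot] at hV
      omega

end Cfsg.Agent.H97.TypeR

namespace Cfsg.Agent.H28.TypeR.Data

open Subgroup Cfsg.Agent
open Cfsg.Agent.H97.TypeR

universe u

variable {G : Type u} [Group G] [Finite G] {F : Type} [Field F] [Fintype F] (D : Data G F)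

theorem syl_le_centralizer_Fo {y : G} (hy : y ∈ D.Fo) : D.syl ≤ centralizer ({y} : Set G) :=
  fun _ hs => mem_centralizer_singleton_iff.2 (mem_centralizer_iff.1 (D.Fo_le_centralizer_syl hy) _ hs)

/-- The involutions of `C(y)`, `y ∈ Fo`, are `C(y)`-conjugate to `t`. -/
theorem exists_conj_centralizer {y s : G} (hy : y ∈ D.Fo) (ho : orderOf s = 2) (hsy : Commute y s) :
    ∃ c : G, Commute c y ∧ c * D.t * c⁻¹ = s := by
  haveI : Fact (Nat.Prime 2) := ⟨Nat.prime_two⟩
  set H := centralizer ({y} : Set G) with hH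
  obtain ⟨T, hT⟩ := D.exists_sylow_eq
  let P : Sylow 2 ↥H := T.subtype (hT ▸ D.syl_le_centralizer_Fo hy)
  have hsH : s ∈ H := mem_centralizer_singleton_iff.2 hsy.eq.symm
  have hz : IsPGroup 2 ↥(zpowers (⟨s, hsH⟩ : ↥H)) :=
    IsPGroup.of_card (n := 1) (by rw [Nat.card_zpowers, ← Subgroup.orderOf_coe]; simpa using ho)
  obtain ⟨Q, hQ⟩ := hz.exists_le_sylow
  obtain ⟨c, hc⟩ := MulAction.exists_smul_eq ↥H Q P
  have hm : c * ⟨s, hsH⟩ * c⁻¹ ∈ (P : Subgroup ↥H) := by
    rw [← hc]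
    exact ⟨⟨s, hsH⟩, hQ (mem_zpowers _), rfl⟩
  have hm' : (c : G) * s * (c : G)⁻¹ ∈ (T : Subgroup G) := hm
  rw [hT] at hm'
  obtain ⟨n, -, hn, hfix⟩ := D.exists_normalizer_fix hm' (by
    rw [show (c : G) * s * (c : G)⁻¹ = MulAut.conj (c : G) s from rfl, MulEquiv.orderOf_eq, ho])
  have hcy : Commute (c : G) y := mem_centralizer_singleton_iff.1 c.2
  exact ⟨(c : G)⁻¹ * n, hcy.inv_left.mul_left (hfix y hy), by
    rw [show (c : G)⁻¹ * n * D.t * ((c : G)⁻¹ * n)⁻¹ = (c : G)⁻¹ * (n * D.t * n⁻¹) * c by group, hn]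
    group⟩

/-- `C_{E₀}(y)` has no non-trivial normal subgroup of odd order. -/
theorem odd_normal_centralizer_eq_bot (y : ↥D.Fo) {R : Subgroup G}
    (hR : R ≤ D.ψ.range ⊓ centralizer ({(y : G)} : Set G)) (ho : Odd (Nat.card ↥R))
    (hn : D.ψ.range ⊓ centralizer ({(y : G)} : Set G) ≤ normalizer (R : Set G)) : R = ⊥ := by
  classical
  obtain ⟨e⟩ := D.centralizer_equiv y
  set A := D.ψ.range ⊓ centralizer ({(y : G)} : Set G) with hA
  letI : Fintype (H58.Descent.fixedField (D.σ y : F ≃+* F)) := Fintype.ofFinite _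
  have hK : Fintype.card (H58.Descent.fixedField (D.σ y : F ≃+* F)) % 2 = 1 := by
    by_contra h
    have h2 : 2 ∣ Fintype.card (H58.Descent.fixedField (D.σ y : F ≃+* F)) := by omega
    obtain ⟨p, hp⟩ := CharP.exists (H58.Descent.fixedField (D.σ y : F ≃+* F))
    obtain ⟨n, hpp, hn⟩ := FiniteField.card (H58.Descent.fixedField (D.σ y : F ≃+* F)) p
    rw [hn] at h2
    have hp2 : p = 2 :=
      ((Nat.prime_dvd_prime_iff_eq Nat.prime_two hpp).1 (Nat.prime_two.dvd_of_dvd_pow h2)).symm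
    subst hp2
    haveI : CharP F 2 :=
      (RingHom.charP_iff (H58.Descent.fixedField (D.σ y : F ≃+* F)).subtype
        Subtype.val_injective 2).1 hp
    exact D.two_ne_zero' (CharP.cast_eq_zero F 2)
  have hVA : D.four ≤ A := le_inf D.four_le_range
    ((D.four_le_syl).trans (D.syl_le_centralizer_Fo y.2))
  obtain ⟨q, hq, hqW⟩ := exists_rot D.two_ne_zero' D.center_psl
  obtain ⟨-, -, -, -, -, hWB⟩ := base_rel D.two_ne_zero'
  have hWm : baseW F ∈ baseFour F :=
    (mem_baseFour D.two_ne_zero' D.center_psl).2 (Or.inr (Or.inl rfl))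
  have hqn : D.ψ q ∈ normalizer (D.syl : Set G) := by
    have hqc : Commute (D.ψ q) D.t := (D.commute_t (D.range_le ⟨q, rfl⟩)).symm
    haveI : Finite (D.syl : Set G) := Subtype.finite
    refine mem_normalizer_fintype fun x hx => ?_
    obtain ⟨_, ⟨b, hb, rfl⟩, rfl | rfl⟩ := hx
    · exact ⟨D.ψ (q * b * q⁻¹), ⟨_, (mem_normalizer_iff.1 hq b).1 hb, rfl⟩,
        Or.inl (by rw [map_mul, map_mul, map_inv])⟩
    · exact ⟨D.ψ (q * b * q⁻¹), ⟨_, (mem_normalizer_iff.1 hq b).1 hb, rfl⟩,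
        Or.inr (by rw [← mul_assoc (D.ψ q), hqc.eq, map_mul, map_mul, map_inv]; group)⟩
  have hqA : D.ψ q ∈ A := ⟨⟨q, rfl⟩, mem_centralizer_singleton_iff.2
    (mem_centralizer_iff.1 (D.normalizer_syl_le hqn) _ y.2).symm⟩
  haveI : (R.subgroupOf A).Normal := (normal_subgroupOf_iff_le_normalizer hR).2 hn
  have hbot := odd_normal_eq_bot hK e (V := D.four.subgroupOf A)
    (by rw [Nat.card_congr (subgroupOfEquivOfLe hVA).toEquiv, D.card_four])
    (q := ⟨D.ψ q, hqA⟩) (v := ⟨D.ψ (baseW F), hVA ⟨_, hWm, rfl⟩⟩)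
    (mem_subgroupOf.2 ⟨_, hWm, rfl⟩)
    (by
      haveI : Finite ((D.four.subgroupOf A : Subgroup ↥A) : Set ↥A) := Subtype.finite
      refine mem_normalizer_fintype fun x hx => ?_
      obtain ⟨b, hb, hbx⟩ := mem_subgroupOf.1 hx
      refine mem_subgroupOf.2 ⟨q * b * q⁻¹, (mem_normalizer_iff.1 hq b).1 hb, ?_⟩
      simp [hbx])
    (fun h => hWB (D.psi_inj (by
      have h' := congrArg Subtype.val h
      simp only [Subgroup.coe_mul, Subgroup.coe_inv] at h'
      rw [← map_inv, ← map_mul, ← map_mul, hqW] at h'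
      exact h'.symm)))
    (fun a ha b hb => Subtype.ext (D.commute_syl (D.four_le_syl (mem_subgroupOf.1 ha))
      (D.four_le_syl (mem_subgroupOf.1 hb))).eq)
    (R.subgroupOf A) (by rwa [Nat.card_congr (subgroupOfEquivOfLe hR).toEquiv])
  rwa [subgroupOf_eq_bot, disjoint_of_le_iff_left_eq_bot hR] at hbot

/-- A normal subgroup of odd order of `C(y)` lies in `Fo`. -/
theorem odd_normal_le_Fo (y : ↥D.Fo) {O : Subgroup G} (hO : O ≤ centralizer ({(y : G)} : Set G))
    (hn : centralizer ({(y : G)} : Set G) ≤ normalizer (O : Set G)) (ho : Odd (Nat.card ↥O)) :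
    O ≤ D.Fo := by
  have hVC : D.four ≤ centralizer ({(y : G)} : Set G) :=
    D.four_le_syl.trans (D.syl_le_centralizer_Fo y.2)
  have hR : O ⊓ D.ψ.range = ⊥ := by
    refine D.odd_normal_centralizer_eq_bot y (le_inf inf_le_right (inf_le_left.trans hO))
      (ho.of_dvd_nat (card_dvd_of_le inf_le_left)) fun a ha => ?_
    have hr : a ∈ normalizer (D.ψ.range : Set G) := le_normalizer ha.1
    have ho' := hn ha.2
    exact mem_normalizer_iff.2 fun z => and_congr (mem_normalizer_iff.1 ho' z)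
      (mem_normalizer_iff.1 hr z)
  have ht : ∀ x ∈ O, Commute x D.t → x ∈ D.Fo := by
    intro x hx hxt
    have hodd : Odd (orderOf x) := ho.of_dvd_nat (orderOf_dvd_natCard O hx)
    refine D.mem_Fo_of_odd (mem_centralizer_iff.2 ?_) hodd
    have hxE := D.mem_E_of_odd (mem_centralizer_singleton_iff.2 hxt.eq) hodd
    have hv : ∀ v ∈ D.four, Commute v x := by
      intro v hv
      have h1 : v * x * v⁻¹ * x⁻¹ ∈ O ⊓ D.ψ.range := by
        refine mem_inf.2 ⟨mul_mem ((mem_normalizer_iff.1 (hn (hVC hv)) x).1 hx) (inv_mem hx), ?_⟩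
        rw [show v * x * v⁻¹ * x⁻¹ = v * (x * v⁻¹ * x⁻¹) by group]
        refine mul_mem (D.four_le_range hv) ?_
        obtain ⟨a, z, hz, rfl⟩ := D.exists_psi_mul hxE
        rw [show D.ψ a * z * v⁻¹ * (D.ψ a * z)⁻¹ = D.ψ a * (z * v⁻¹ * z⁻¹) * (D.ψ a)⁻¹ by group]
        exact mul_mem (mul_mem ⟨a, rfl⟩ (D.psi_conj_mem hz (inv_mem (D.four_le_range hv))))
          (inv_mem ⟨a, rfl⟩)
      rw [hR, mem_bot] at h1
      exact mul_inv_eq_iff_eq_mul.1 (mul_inv_eq_one.1 h1)
    rintro s ⟨v, hv', rfl | rfl⟩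
    · exact (hv _ hv').eq
    · exact (hxt.symm.mul_left (hv _ hv')).eq
  haveI : IsMulCommutative ↥D.four :=
    ⟨⟨fun a b => Subtype.ext (D.commute_syl (D.four_le_syl a.2) (D.four_le_syl b.2)).eq⟩⟩
  have hnc : ¬ IsCyclic ↥D.four := fun hc => by
    have h2 : Monoid.exponent ↥D.four ∣ 2 := Monoid.exponent_dvd_of_forall_pow_eq_one fun v =>
      Subtype.ext (by rw [Subgroup.coe_pow, pow_two, D.sq_four v.2]; rfl)
    rw [hc.exponent_eq_card, D.card_four] at h2
    exact absurd (Nat.le_of_dvd (by norm_num) h2) (by norm_num)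
  refine Agent.Coprime.le_of_centralizer_noncyclic_le hnc (hVC.trans hn)
    (by rw [D.card_four]; exact (Nat.coprime_two_left.2 ho).pow_left 2) fun v hv hv1 => ?_
  rintro x ⟨hx, hxv⟩
  obtain ⟨n, hn', hnt, hfix⟩ := D.exists_normalizer_fix (D.four_le_syl hv)
    (orderOf_eq_prime (by rw [pow_two]; exact D.sq_four hv) hv1)
  have hny : n ∈ centralizer ({(y : G)} : Set G) :=
    mem_centralizer_singleton_iff.2 (hfix _ y.2).eq
  have hx' : n⁻¹ * x * n ∈ O := by
    have := (mem_normalizer_iff.1 (hn (inv_mem hny)) x).1 hx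
    rwa [inv_inv] at this
  have hc : Commute (n⁻¹ * x * n) D.t := by
    have h := mem_centralizer_singleton_iff.1 hxv
    rw [← hnt] at h
    show n⁻¹ * x * n * D.t = D.t * (n⁻¹ * x * n)
    calc n⁻¹ * x * n * D.t = n⁻¹ * (x * (n * D.t * n⁻¹)) * n := by group
      _ = n⁻¹ * (n * D.t * n⁻¹ * x) * n := by rw [h]
      _ = D.t * (n⁻¹ * x * n) := by group
  have := D.conj_mem_Fo hn' (ht _ hx' hc)
  rwa [show n * (n⁻¹ * x * n) * n⁻¹ = x by group] at this

end Cfsg.Agent.H28.TypeR.Data
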