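import Cfsg.Agent.H4.GW.AutShape
import Cfsg.Agent.H58.Descent

/-!
# Odd automorphisms of `PSL₂(q)` fixing a four group pointwise

Over a fixed four group with entries in the prime field they are field automorphisms, and their
centraliser is `PSL₂` of the fixed field.
-/

set_option autoImplicit false
set_option linter.unusedSectionVars false
set_option linter.style.haveILetI false

namespace Cfsg.Agent.H97.TypeR

open Subgroup Cfsg.Agent
open Cfsg.Agent.H56 (PSLn SLn semiAut semiSL toP smat glMap)
open Cfsg.Agent.H4.GW (actHom fieldPartHom two_ne)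

universe u

variable {F : Type} [Field F] [Fintype F]

local notation "GL2" => GL (Fin 2) F
local notation "M2" => Matrix (Fin 2) (Fin 2) F
local notation "wm2" => H5.EvenCyclic.wm F

/-- Second generator of the base four group. -/
structure IsBase (s : SLn 2 F) : Prop where
  fixed : ∀ σ : F ≃+* F, (smat s).map σ = smat s
  shape : ∃ a b : F, a ^ 2 + b ^ 2 = -1 ∧ smat s = !![a, b; b, -a]

variable (F) in
theorem exists_base : ∃ s : SLn 2 F, IsBase s := by
  obtain ⟨p, hp⟩ := CharP.exists F
  haveI := hp
  haveI : Fact p.Prime := ⟨CharP.char_is_prime F p⟩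
  obtain ⟨a₀, b₀, hab⟩ := ZMod.sq_add_sq p (-1 : ZMod p)
  have hab' : ((a₀.val : F)) ^ 2 + ((b₀.val : F)) ^ 2 = -1 := by
    have h := congrArg (ZMod.castHom dvd_rfl F) hab
    rw [map_add, map_pow, map_pow, map_neg, map_one] at h
    rw [ZMod.natCast_val, ZMod.natCast_val]
    simpa using h
  refine ⟨⟨!![(a₀.val : F), b₀.val; b₀.val, -a₀.val],
    by rw [Matrix.det_fin_two_of]; linear_combination -hab'⟩, fun σ => ?_, _, _, hab', rfl⟩
  ext i j
  fin_cases i <;> fin_cases j <;> simp [smat, - ZMod.natCast_val]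

theorem wm_fixed (σ : F ≃+* F) : (smat wm2).map σ = smat wm2 := by
  rw [H5.EvenCyclic.wm_coe]; ext i j; fin_cases i <;> fin_cases j <;> simp

theorem smat_semiSL_one (σ : F ≃+* F) (t : SLn 2 F) :
    smat (semiSL (1 : GL2) σ t) = (smat t).map σ := by
  simp [H56.smat_semiSL]

theorem semiAut_one_fix {σ : F ≃+* F} {t : SLn 2 F} (h : (smat t).map σ = smat t) :
    semiAut (1 : GL2) σ (toP t) = toP t := by
  rw [H56.semiAut_toP]
  exact congrArg toP (Subtype.ext ((smat_semiSL_one σ t).trans h))

theorem semiAut_split (g : GL2) (σ : F ≃+* F) :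
    semiAut g σ = semiAut g (RingEquiv.refl F) * semiAut 1 σ := by
  rw [H56.semiAut_mul, map_one, mul_one]
  rfl

theorem semiAut_comp (g h : GL2) :
    semiAut g (RingEquiv.refl F) * semiAut h (RingEquiv.refl F) = semiAut (g * h) (RingEquiv.refl F) := by
  rw [H56.semiAut_mul]
  rfl

theorem semiAut_one_pow (σ : RingAut F) (n : ℕ) :
    semiAut (1 : GL2) σ ^ n = semiAut (1 : GL2) (σ ^ n) := by
  induction n with
  | zero => exact H56.semiAut_one.symm
  | succ n ih =>
    rw [pow_succ, ih, H56.semiAut_mul, map_one, mul_one, pow_succ]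
    rfl

theorem conj_mul_sign {t : SLn 2 F} {g : GL2}
    (h : semiAut g (RingEquiv.refl F) (toP t) = toP t) :
    ∃ c : F, c * c = 1 ∧ (g : M2) * smat t = c • (smat t * (g : M2)) := by
  rw [H56.semiAut_toP] at h
  obtain ⟨c, hc, hm⟩ := H56.toP_eq_iff.1 h.symm
  refine ⟨c, by rw [← pow_two, hc], ?_⟩
  have hm' : smat (semiSL g (RingEquiv.refl F) t) = c • smat t := hm
  rw [H56.smat_semiSL, show (smat t).map (RingEquiv.refl F) = smat t from by ext i j; simp] at hm'
  have := congrArg (· * (g : M2)) hm'
  simpa [mul_assoc, ← Units.val_mul, smul_mul_assoc] using this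

/-- An automorphism without field part fixing the base four group is conjugation by one of it. -/
theorem exists_conj_of_fix (h2 : (2 : F) ≠ 0) {s : SLn 2 F} (hs : IsBase s) {g : GL2}
    (hw : semiAut g (RingEquiv.refl F) (toP wm2) = toP wm2)
    (hsf : semiAut g (RingEquiv.refl F) (toP s) = toP s) :
    ∃ t : SLn 2 F, (t = 1 ∨ t = wm2 ∨ t = s ∨ t = wm2 * s) ∧
      semiAut g (RingEquiv.refl F) = MulAut.conj (toP t) := by
  obtain ⟨a, b, hab, hsm⟩ := hs.shape
  obtain ⟨c, hc, hcw⟩ := conj_mul_sign hw
  obtain ⟨d, hd, hds⟩ := conj_mul_sign hsf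
  -- a linear map commuting with both is scalar
  have key : ∀ k : GL2, (k : M2) * smat wm2 = smat wm2 * (k : M2) →
      (k : M2) * smat s = smat s * (k : M2) →
      semiAut k (RingEquiv.refl F) = 1 := by
    intro k e1 e2
    rw [H5.EvenCyclic.wm_coe] at e1
    rw [hsm] at e2
    set K : M2 := (k : M2) with hK
    have w00 := congrFun (congrFun e1 0) 0
    have w01 := congrFun (congrFun e1 0) 1
    have s00 := congrFun (congrFun e2 0) 0
    have s01 := congrFun (congrFun e2 0) 1
    simp [Matrix.mul_apply, Fin.sum_univ_two] at w00 w01 s00 s01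
    have h01 : K 0 1 = 0 := by
      have ha : a * K 0 1 = 0 := by
        have : 2 * (a * K 0 1) = 0 := by linear_combination -s01 + b * w01
        exact (mul_eq_zero.1 this).resolve_left h2
      have hb : b * K 0 1 = 0 := by
        have : 2 * (b * K 0 1) = 0 := by linear_combination s00 - b * w00
        exact (mul_eq_zero.1 this).resolve_left h2
      linear_combination -a * ha - b * hb + K 0 1 * hab
    have h10 : K 1 0 = 0 := by linear_combination -w00 - h01
    have hne : K 0 0 ≠ 0 := by
      intro h0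
      have h11 : K 1 1 = 0 := by linear_combination h0 - w01
      have : K = 0 := by
        ext i j; fin_cases i <;> fin_cases j <;> assumption
      exact k.ne_zero this
    have : k = Matrix.GeneralLinearGroup.scalar (Fin 2) (Units.mk0 _ hne) := by
      apply Units.ext
      rw [Matrix.GeneralLinearGroup.coe_scalar]
      ext i j
      have h11 : K 1 1 = K 0 0 := by linear_combination -w01
      fin_cases i <;> fin_cases j <;> simp [← hK, h01, h10, h11]
    rw [this]
    exact H56.semiAut_scalar _
  have hws : smat wm2 * smat s = -(smat s * smat wm2) := by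
    rw [hsm, H5.EvenCyclic.wm_coe]
    ext i j; fin_cases i <;> fin_cases j <;> simp [Matrix.mul_apply, Fin.sum_univ_two]
  have fin : ∀ t : SLn 2 F, (g : M2) * smat t * smat wm2 = smat wm2 * ((g : M2) * smat t) →
      (g : M2) * smat t * smat s = smat s * ((g : M2) * smat t) →
      semiAut g (RingEquiv.refl F) = MulAut.conj (toP t⁻¹) := by
    intro t e1 e2
    have h := key (g * Matrix.SpecialLinearGroup.toGL t) e1 e2
    rw [← semiAut_comp, H56.semiAut_eq_conj, mul_eq_one_iff_eq_inv, ← map_inv, ← map_inv] at h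
    exact h
  have hinv : ∀ t : SLn 2 F, toP t * toP t = 1 → toP t⁻¹ = toP t := fun t ht => by
    rw [map_inv, inv_eq_of_mul_eq_one_right ht]
  have hW2 : toP wm2 * toP wm2 = 1 := by
    rw [← map_mul, ← map_one (toP (n := 2) (F := F))]
    refine H56.toP_eq_iff.2 ⟨-1, by ring, ?_⟩
    show smat (1 : SLn 2 F) = (-1 : F) • (smat wm2 * smat wm2)
    rw [H5.EvenCyclic.wm_coe]
    ext i j; fin_cases i <;> fin_cases j <;> simp [smat]
  have hS2 : toP s * toP s = 1 := by
    rw [← map_mul, ← map_one (toP (n := 2) (F := F))]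
    refine H56.toP_eq_iff.2 ⟨-1, by ring, ?_⟩
    show smat (1 : SLn 2 F) = (-1 : F) • (smat s * smat s)
    rw [hsm]
    ext i j; fin_cases i <;> fin_cases j <;> simp [smat] <;>
      first | linear_combination hab | ring1
  have hWS2 : toP (wm2 * s) * toP (wm2 * s) = 1 := by
    rw [← map_mul, ← map_one (toP (n := 2) (F := F))]
    refine H56.toP_eq_iff.2 ⟨-1, by ring, ?_⟩
    show smat (1 : SLn 2 F) = (-1 : F) • (smat wm2 * smat s * (smat wm2 * smat s))
    rw [hsm, H5.EvenCyclic.wm_coe]
    ext i j; fin_cases i <;> fin_cases j <;> simp [smat, Matrix.mul_apply, Fin.sum_univ_two] <;>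
      first | linear_combination hab | ring1
  rcases mul_self_eq_one_iff.1 hc with rfl | rfl <;> rcases mul_self_eq_one_iff.1 hd with rfl | rfl <;>
    simp only [one_smul, neg_one_smul] at hcw hds
  · exact ⟨1, Or.inl rfl, by simpa using fin 1 (by simpa [smat] using hcw) (by simpa [smat] using hds)⟩
  · refine ⟨wm2, Or.inr (Or.inl rfl), (fin wm2 ?_ ?_).trans (by rw [hinv _ hW2])⟩
    · conv_lhs => rw [hcw]
      rw [mul_assoc]
    · rw [mul_assoc, hws, mul_neg, ← mul_assoc, hds, neg_mul, neg_neg, mul_assoc]
  · refine ⟨s, Or.inr (Or.inr (Or.inl rfl)), (fin s ?_ ?_).trans (by rw [hinv _ hS2])⟩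
    · rw [mul_assoc, show smat s * smat wm2 = -(smat wm2 * smat s) by rw [hws, neg_neg], mul_neg,
        ← mul_assoc, hcw, neg_mul, neg_neg, mul_assoc]
    · conv_lhs => rw [hds]
      rw [mul_assoc]
  · refine ⟨wm2 * s, Or.inr (Or.inr (Or.inr rfl)), (fin (wm2 * s) ?_ ?_).trans (by rw [hinv _ hWS2])⟩
    · show (g : M2) * (smat wm2 * smat s) * smat wm2 = smat wm2 * ((g : M2) * (smat wm2 * smat s))
      calc (g : M2) * (smat wm2 * smat s) * smat wm2
          = (g : M2) * smat wm2 * (smat s * smat wm2) := by simp only [mul_assoc]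
        _ = smat wm2 * (g : M2) * (smat wm2 * smat s) := by
            rw [hcw, hws]; simp only [neg_mul, mul_neg]
        _ = _ := by simp only [mul_assoc]
    · show (g : M2) * (smat wm2 * smat s) * smat s = smat s * ((g : M2) * (smat wm2 * smat s))
      calc (g : M2) * (smat wm2 * smat s) * smat s
          = (g : M2) * (smat wm2 * smat s) * smat s := rfl
        _ = -((g : M2) * smat s * smat wm2 * smat s) := by
            rw [hws]; simp only [neg_mul, mul_neg, mul_assoc]
        _ = smat s * (g : M2) * smat wm2 * smat s := by rw [hds]; simp only [neg_mul, neg_neg]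
        _ = _ := by simp only [mul_assoc]

section Over

variable {Y : Type u} [Group Y] [Finite Y] {K : Subgroup Y} [K.Normal] (e : ↥K ≃* PSLn 2 F)

theorem semiAut_eq_one_field {g : GL2} {σ : F ≃+* F} (h : semiAut g σ = 1) : σ = RingEquiv.refl F :=
  (H56.eq_of_semiAut_eq_one le_rfl h).1

/-- An odd element fixing the base four group acts as its field part. -/
theorem actHom_eq_field (hodd : Odd (Fintype.card F)) {s : SLn 2 F} (hs : IsBase s) {y : Y}
    (hyo : Odd (orderOf y)) (hw : Commute ((e.symm (toP wm2) : ↥K) : Y) y)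
    (hsy : Commute ((e.symm (toP s) : ↥K) : Y) y) :
    actHom K e y = semiAut (1 : GL2) (fieldPartHom e y) := by
  obtain ⟨g, hg⟩ := H4.GW.exists_semi e y
  set σ : F ≃+* F := fieldPartHom e y with hσ
  have hfix : ∀ t : SLn 2 F, (smat t).map σ = smat t → Commute ((e.symm (toP t) : ↥K) : Y) y →
      semiAut g (RingEquiv.refl F) (toP t) = toP t := by
    intro t ht hc
    have h1 : actHom K e y (toP t) = toP t := by
      rw [H4.GW.actHom_apply]
      refine (congrArg e (Subtype.ext ?_)).trans (e.apply_symm_apply _)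
      rw [MulAut.conjNormal_apply, ← hc.eq, mul_inv_cancel_right]
    rw [hg, semiAut_split, MulAut.mul_apply, semiAut_one_fix ht] at h1
    exact h1
  obtain ⟨t, ht, hgt⟩ := exists_conj_of_fix (two_ne hodd) hs (hfix _ (wm_fixed σ) hw)
    (hfix _ (hs.fixed σ) hsy)
  have htfix : (smat t).map σ = smat t := by
    rcases ht with rfl | rfl | rfl | rfl
    · simp [smat, Matrix.map_one]
    · exact wm_fixed σ
    · exact hs.fixed σ
    · show (smat wm2 * smat s).map σ = smat wm2 * smat s
      rw [Matrix.map_mul, wm_fixed, hs.fixed]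
  have hA : actHom K e y = MulAut.conj (toP t) * semiAut (1 : GL2) σ := by
    rw [hg, semiAut_split, hgt]
  have hcomm : Commute (MulAut.conj (toP t)) (semiAut (1 : GL2) σ) := by
    refine MulEquiv.ext fun x => ?_
    simp only [MulAut.mul_apply, MulAut.conj_apply, map_mul, map_inv, semiAut_one_fix htfix]
  set n := orderOf y
  have h1 : actHom K e y ^ n = 1 := by rw [← map_pow, pow_orderOf_eq_one, map_one]
  have hσn : (σ : RingAut F) ^ n = 1 := by
    rw [hσ, ← map_pow, pow_orderOf_eq_one, map_one]
  rw [hA, hcomm.mul_pow, semiAut_one_pow, hσn,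
    show semiAut (1 : GL2) (1 : RingAut F) = 1 from H56.semiAut_one, mul_one, ← map_pow] at h1
  obtain ⟨k, hk⟩ := hyo
  have htt : toP t * toP t = 1 ∨ t = 1 := by
    rcases ht with rfl | rfl | rfl | rfl <;> first | exact Or.inr rfl | skip
    all_goals left
    all_goals rw [← map_mul, ← map_one (toP (n := 2) (F := F))]
    all_goals refine H56.toP_eq_iff.2 ⟨-1, by ring, ?_⟩
    all_goals obtain ⟨a, b, hab, hsm⟩ := hs.shape
    all_goals show smat (1 : SLn 2 F) = (-1 : F) • smat (_ * _)
    all_goals simp only [H56.cmul, hsm, H5.EvenCyclic.wm_coe]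
    all_goals ext i j
    all_goals fin_cases i <;> fin_cases j <;> simp [smat, Matrix.mul_apply, Fin.sum_univ_two] <;>
      first | linear_combination hab | ring1
  rcases htt with htt | rfl
  · rw [hk, pow_succ, pow_mul, pow_two, htt, one_pow, one_mul] at h1
    rw [hA, h1, one_mul]
  · rw [hA, map_one, map_one, one_mul]

/-- The elements of `PSL₂(q)` fixed by an odd field automorphism are those over the fixed field. -/
theorem semiAut_one_fixed_iff (hodd : Odd (Fintype.card F)) {σ : RingAut F} (hσ : Odd (orderOf σ))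
    (t : SLn 2 F) :
    semiAut (1 : GL2) σ (toP t) = toP t ↔ (smat t).map σ = smat t := by
  refine ⟨fun h => ?_, semiAut_one_fix⟩
  rw [H56.semiAut_toP] at h
  obtain ⟨c, hc, hm⟩ := H56.toP_eq_iff.1 h.symm
  have hm' : (smat t).map σ = c • smat t := (smat_semiSL_one σ t).symm.trans hm
  rcases mul_self_eq_one_iff.1 (by rw [← pow_two, hc] : c * c = 1) with rfl | rfl
  · rwa [one_smul] at hm'
  exfalso
  have hit : ∀ n : ℕ, (smat t).map ((σ ^ n : RingAut F) : F ≃+* F) = (-1 : F) ^ n • smat t := by
    intro n
    induction n with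
    | zero => simp
    | succ n ih =>
      ext i j
      have h1 := congrFun (congrFun ih i) j
      have h2 := congrFun (congrFun hm' i) j
      simp only [Matrix.map_apply, Matrix.smul_apply, smul_eq_mul] at h1 h2 ⊢
      rw [pow_succ]
      show (σ ^ n) (σ (smat t i j)) = _
      rw [h2, map_mul, h1, map_neg, map_one, pow_succ]
      ring
  have h := hit (orderOf σ)
  rw [pow_orderOf_eq_one, hσ.neg_one_pow] at h
  have hz : smat t = 0 := by
    ext i j
    have := congrFun (congrFun h i) j
    simp at this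
    have h2 : (2 : F) * smat t i j = 0 := by linear_combination this
    exact (mul_eq_zero.1 h2).resolve_left (two_ne hodd)
  have := t.det_coe
  rw [show (t : M2) = 0 from hz, Matrix.det_zero] at this
  exact zero_ne_one this

/-- `SL₂` over the fixed field, inside `PSL₂(q)`. -/
noncomputable def fixHom (σ : F ≃+* F) :
    Matrix.SpecialLinearGroup (Fin 2) (H58.Descent.fixedField σ) →* PSLn 2 F :=
  toP.comp (Matrix.SpecialLinearGroup.map (H58.Descent.fixedField σ).subtype)

theorem mem_range_fixHom (hodd : Odd (Fintype.card F)) {σ : RingAut F} (hσ : Odd (orderOf σ))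
    (x : PSLn 2 F) : x ∈ (fixHom σ).range ↔ semiAut (1 : GL2) σ x = x := by
  constructor
  · rintro ⟨u, rfl⟩
    refine (semiAut_one_fixed_iff hodd hσ _).2 ?_
    ext i j
    exact (H58.Descent.mem_fixedField σ).1 (u i j).2
  · obtain ⟨t, rfl⟩ := H56.toP_surjective x
    intro h
    have ht := (semiAut_one_fixed_iff hodd hσ t).1 h
    have hmem : ∀ i j, smat t i j ∈ H58.Descent.fixedField σ := fun i j =>
      (H58.Descent.mem_fixedField σ).2 (congrFun (congrFun ht i) j)
    let M : Matrix (Fin 2) (Fin 2) (H58.Descent.fixedField σ) := Matrix.of fun i j => ⟨_, hmem i j⟩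
    have hM : M.map (H58.Descent.fixedField σ).subtype = smat t := by ext i j; rfl
    have hd : M.det = 1 := (H58.Descent.fixedField σ).subtype.injective (by
      rw [RingHom.map_det, map_one]
      exact (congrArg Matrix.det hM).trans t.det_coe)
    exact ⟨⟨M, hd⟩, congrArg toP (Subtype.ext hM)⟩

theorem ker_fixHom (σ : F ≃+* F) :
    (fixHom σ).ker = center (Matrix.SpecialLinearGroup (Fin 2) (H58.Descent.fixedField σ)) := by
  ext u
  rw [MonoidHom.mem_ker, fixHom, MonoidHom.comp_apply, H56.toP, QuotientGroup.mk'_apply,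
    QuotientGroup.eq_one_iff, Matrix.SpecialLinearGroup.mem_center_iff,
    Matrix.SpecialLinearGroup.mem_center_iff]
  constructor
  · rintro ⟨c, hc, hm⟩
    have h00 : c = ((u 0 0 : H58.Descent.fixedField σ) : F) := by
      have := congrFun (congrFun hm 0) 0
      simpa using this
    refine ⟨u 0 0, Subtype.ext (by simpa [← h00] using hc), ?_⟩
    ext i j
    have := congrFun (congrFun hm i) j
    rw [h00] at this
    fin_cases i <;> fin_cases j <;> simpa using this
  · rintro ⟨r, hr, hm⟩
    refine ⟨(r : F), by simpa using congrArg Subtype.val hr, ?_⟩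
    ext i j
    have := congrArg Subtype.val (congrFun (congrFun hm i) j)
    fin_cases i <;> fin_cases j <;> simpa using this

/-- The centraliser in `K` of an odd element fixing the base four group. -/
theorem nonempty_centralizer_equiv (hodd : Odd (Fintype.card F)) {s : SLn 2 F} (hs : IsBase s)
    {y : Y} (hyo : Odd (orderOf y)) (hw : Commute ((e.symm (toP wm2) : ↥K) : Y) y)
    (hsy : Commute ((e.symm (toP s) : ↥K) : Y) y) :
    Nonempty (↥(K ⊓ centralizer ({y} : Set Y)) ≃*
      PSLn 2 (H58.Descent.fixedField (fieldPartHom e y : F ≃+* F))) := by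
  set σ : RingAut F := fieldPartHom e y with hσdef
  have hσ : Odd (orderOf σ) := hyo.of_dvd_nat (orderOf_map_dvd _ y)
  have hact := actHom_eq_field e hodd hs hyo hw hsy
  rw [← hσdef] at hact
  have hiff : ∀ x : ↥K, (x : Y) ∈ centralizer ({y} : Set Y) ↔ e x ∈ (fixHom σ).range := by
    intro x
    rw [mem_range_fixHom hodd hσ, ← hact, H4.GW.actHom_apply, e.symm_apply_apply,
      e.injective.eq_iff, Subtype.ext_iff, MulAut.conjNormal_apply, mem_centralizer_singleton_iff,
      mul_inv_eq_iff_eq_mul]
    exact eq_comm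
  let θ : ↥(K ⊓ centralizer ({y} : Set Y)) →* ↥(fixHom σ).range :=
    (e.toMonoidHom.comp (inclusion inf_le_left)).codRestrict _ fun x => (hiff _).1 x.2.2
  have hb : Function.Bijective θ :=
    ⟨fun a b hab => inclusion_injective (inf_le_left : K ⊓ centralizer ({y} : Set Y) ≤ K)
        (e.injective (congrArg Subtype.val hab)),
      fun z => ⟨⟨e.symm z, (e.symm z).2, (hiff _).2 (by rw [e.apply_symm_apply]; exact z.2)⟩,
        Subtype.ext (e.apply_symm_apply z.1)⟩⟩
  exact ⟨(MulEquiv.ofBijective θ hb).trans ((QuotientGroup.quotientKerEquivRange _).symm.trans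
    (QuotientGroup.quotientMulEquivOfEq (ker_fixHom σ)))⟩

end Over

end Cfsg.Agent.H97.TypeR
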