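import Cfsg.Agent.H97.TypeR.FieldAut
import Cfsg.Agent.H28.TypeR.Setting
import Cfsg.Agent.H50.Walter.PieceR

/-!
# Type R: the field part of `C(t)`

A Sylow 2-subgroup `S = ⟨t⟩ × V` with `V` the base four group; `C(S) = S × Fo`, `N(S)` centralises
`Fo`, so conjugate elements of `Fo` are equal; `C_{E₀}(y) ≅ PSL₂` of the fixed field of `σ y`.
-/

set_option autoImplicit false
set_option linter.unusedSectionVars false
set_option linter.style.haveILetI false

namespace Cfsg.Agent.H97.TypeR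

open Subgroup Cfsg.Agent
open Cfsg.Agent.H56 (PSLn SLn semiAut toP smat)

variable {F : Type} [Field F] [Fintype F]

variable (F) in
/-- The chosen second generator. -/
noncomputable def baseS : SLn 2 F := Classical.choose (exists_base F)

variable (F) in
theorem isBase : IsBase (baseS F) := Classical.choose_spec (exists_base F)

variable (F) in
/-- The first involution of the base four group. -/
noncomputable abbrev baseW : PSLn 2 F := toP (H5.EvenCyclic.wm F)

variable (F) in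
/-- The second involution of the base four group. -/
noncomputable abbrev baseB : PSLn 2 F := toP (baseS F)

variable (F) in
/-- The base four group. -/
noncomputable def baseFour : Subgroup (PSLn 2 F) := centralizer ({baseW F, baseB F} : Set _)

/-- The base four group as relations. -/
theorem base_rel (h2 : (2 : F) ≠ 0) :
    baseW F * baseW F = 1 ∧ baseB F * baseB F = 1 ∧ Commute (baseW F) (baseB F) ∧
      baseW F ≠ 1 ∧ baseB F ≠ 1 ∧ baseW F ≠ baseB F := by
  obtain ⟨a, b, hab, hsm⟩ := (isBase F).shape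
  have hne : (-1 : F) ≠ 0 := neg_ne_zero.2 one_ne_zero
  refine ⟨?_, ?_, ?_, ?_, ?_, ?_⟩
  · rw [← map_mul, ← map_one (toP (n := 2) (F := F))]
    refine H56.toP_eq_iff.2 ⟨-1, by ring, ?_⟩
    show smat (1 : SLn 2 F) = (-1 : F) • (smat (H5.EvenCyclic.wm F) * smat (H5.EvenCyclic.wm F))
    rw [H5.EvenCyclic.wm_coe]
    ext i j; fin_cases i <;> fin_cases j <;> simp [smat]
  · rw [← map_mul, ← map_one (toP (n := 2) (F := F))]
    refine H56.toP_eq_iff.2 ⟨-1, by ring, ?_⟩
    show smat (1 : SLn 2 F) = (-1 : F) • (smat (baseS F) * smat (baseS F))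
    rw [hsm]
    ext i j; fin_cases i <;> fin_cases j <;> simp [smat] <;>
      first | linear_combination hab | ring1
  · show baseW F * baseB F = baseB F * baseW F
    rw [← map_mul, ← map_mul]
    refine H56.toP_eq_iff.2 ⟨-1, by ring, ?_⟩
    show smat (baseS F) * smat (H5.EvenCyclic.wm F) =
      (-1 : F) • (smat (H5.EvenCyclic.wm F) * smat (baseS F))
    rw [hsm, H5.EvenCyclic.wm_coe]
    ext i j; fin_cases i <;> fin_cases j <;> simp [smat, Matrix.mul_apply, Fin.sum_univ_two]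
  · intro h
    rw [baseW, ← map_one (toP (n := 2) (F := F))] at h
    obtain ⟨c, -, hm⟩ := H56.toP_eq_iff.1 h
    replace hm : smat (1 : SLn 2 F) = c • smat (H5.EvenCyclic.wm F) := hm
    rw [H5.EvenCyclic.wm_coe] at hm
    have h01 := congrFun (congrFun hm 0) 1
    have h00 := congrFun (congrFun hm 0) 0
    simp [smat] at h01 h00
  · intro h
    rw [baseB, ← map_one (toP (n := 2) (F := F))] at h
    obtain ⟨c, hc, hm⟩ := H56.toP_eq_iff.1 h
    replace hm : smat (1 : SLn 2 F) = c • smat (baseS F) := hm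
    rw [hsm] at hm
    have h00 := congrFun (congrFun hm 0) 0
    have h11 := congrFun (congrFun hm 1) 1
    have h01 := congrFun (congrFun hm 0) 1
    simp [smat] at h00 h11 h01
    have ha : (2 : F) * (c * a) = 0 := by linear_combination h11 - h00
    have hca : c * a = 0 := (mul_eq_zero.1 ha).resolve_left h2
    exact one_ne_zero (h00.trans hca)
  · intro h
    obtain ⟨c, hc, hm⟩ := H56.toP_eq_iff.1 h
    replace hm : smat (baseS F) = c • smat (H5.EvenCyclic.wm F) := hm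
    rw [hsm, H5.EvenCyclic.wm_coe] at hm
    have h00 := congrFun (congrFun hm 0) 0
    have h10 := congrFun (congrFun hm 1) 0
    have h01 := congrFun (congrFun hm 0) 1
    simp [smat] at h00 h10 h01
    have hb : (2 : F) * b = 0 := by linear_combination h01 + h10
    have hb0 := (mul_eq_zero.1 hb).resolve_left h2
    exact hne (by rw [← hab, h00, hb0]; ring)

theorem semiAut_toGL (t : SLn 2 F) :
    semiAut (Matrix.SpecialLinearGroup.toGL t) (RingEquiv.refl F) = MulAut.conj (toP t) :=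
  H56.semiAut_eq_conj t

/-- The base four group has the expected four elements. -/
theorem mem_baseFour (h2 : (2 : F) ≠ 0) (hcen : center (PSLn 2 F) = ⊥) {x : PSLn 2 F} :
    x ∈ baseFour F ↔ x = 1 ∨ x = baseW F ∨ x = baseB F ∨ x = baseW F * baseB F := by
  obtain ⟨hW, hB, hc, -⟩ := base_rel h2
  rw [baseFour, mem_centralizer_iff]
  simp only [Set.mem_insert_iff, Set.mem_singleton_iff, forall_eq_or_imp, forall_eq]
  constructor
  · rintro ⟨h1, h3⟩
    obtain ⟨t, rfl⟩ := H56.toP_surjective x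
    have hfix : ∀ z : PSLn 2 F, z * toP t = toP t * z →
        semiAut (Matrix.SpecialLinearGroup.toGL t) (RingEquiv.refl F) z = z := fun z hz => by
      rw [semiAut_toGL, MulAut.conj_apply, ← hz, mul_inv_cancel_right]
    obtain ⟨u, hu, he⟩ := exists_conj_of_fix h2 (isBase F) (hfix _ h1) (hfix _ h3)
    rw [semiAut_toGL] at he
    have hk : (toP u)⁻¹ * toP t ∈ center (PSLn 2 F) := mem_center_iff.2 fun z => by
      have hz := DFunLike.congr_fun he z
      simp only [MulAut.conj_apply] at hz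
      calc z * ((toP u)⁻¹ * toP t)
          = (toP u)⁻¹ * (toP u * z * (toP u)⁻¹) * toP t := by group
        _ = (toP u)⁻¹ * (toP t * z * (toP t)⁻¹) * toP t := by rw [hz]
        _ = (toP u)⁻¹ * toP t * z := by group
    rw [hcen, mem_bot, inv_mul_eq_one] at hk
    rw [← hk]
    rcases hu with rfl | rfl | rfl | rfl
    · exact Or.inl (map_one _)
    · exact Or.inr (Or.inl rfl)
    · exact Or.inr (Or.inr (Or.inl rfl))
    · exact Or.inr (Or.inr (Or.inr (map_mul _ _ _)))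
  · rintro (rfl | rfl | rfl | rfl)
    · simp
    · exact ⟨rfl, hc.eq.symm⟩
    · exact ⟨hc.eq, rfl⟩
    · exact ⟨((Commute.refl _).mul_right hc).eq, (hc.symm.mul_right (Commute.refl _)).eq⟩

theorem sq_baseFour (h2 : (2 : F) ≠ 0) (hcen : center (PSLn 2 F) = ⊥) {x : PSLn 2 F}
    (hx : x ∈ baseFour F) : x * x = 1 := by
  obtain ⟨hW, hB, hc, -⟩ := base_rel h2
  rcases (mem_baseFour h2 hcen).1 hx with rfl | rfl | rfl | rfl
  · exact mul_one 1
  · exact hW
  · exact hB
  · rw [mul_assoc (baseW F), ← mul_assoc (baseB F), ← hc.eq, mul_assoc (baseW F) (baseB F), hB, mul_one, hW]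

theorem card_baseFour (h2 : (2 : F) ≠ 0) (hcen : center (PSLn 2 F) = ⊥) :
    Nat.card ↥(baseFour F) = 4 := by
  obtain ⟨hW, hB, hc, hW1, hB1, hne⟩ := base_rel h2
  have hset : (baseFour F : Set (PSLn 2 F)) = {1, baseW F, baseB F, baseW F * baseB F} := by
    ext x
    simp [mem_baseFour h2 hcen]
  rw [← SetLike.coe_sort_coe, Nat.card_coe_set_eq, hset]
  have h1 : baseW F * baseB F ≠ 1 := fun e => hne (by
    rw [← inv_eq_of_mul_eq_one_right e, inv_eq_of_mul_eq_one_right hW])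
  rw [Set.ncard_insert_of_notMem (by simp [hW1.symm, hB1.symm, h1.symm]),
    Set.ncard_insert_of_notMem (by simp [hne, hB1]),
    Set.ncard_insert_of_notMem (by simp [hW1]), Set.ncard_singleton]

theorem fix_baseFour (h2 : (2 : F) ≠ 0) (hcen : center (PSLn 2 F) = ⊥) (σ : F ≃+* F)
    {x : PSLn 2 F} (hx : x ∈ baseFour F) : semiAut (1 : GL (Fin 2) F) σ x = x := by
  have hW := semiAut_one_fix (wm_fixed σ)
  have hB := semiAut_one_fix ((isBase F).fixed σ)
  rcases (mem_baseFour h2 hcen).1 hx with rfl | rfl | rfl | rfl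
  · exact map_one _
  · exact hW
  · exact hB
  · rw [map_mul, hW, hB]

/-- An element normalising the base four group and moving its first involution. -/
theorem exists_rot (h2 : (2 : F) ≠ 0) (hcen : center (PSLn 2 F) = ⊥) :
    ∃ q : PSLn 2 F, q ∈ normalizer (baseFour F : Set (PSLn 2 F)) ∧
      q * baseW F * q⁻¹ = baseB F := by
  obtain ⟨a, b, hab, hsm⟩ := (isBase F).shape
  obtain ⟨hW, hB, hc, -⟩ := base_rel h2
  let M : Matrix (Fin 2) (Fin 2) F :=
    !![(1 + a + b) / 2, (1 + b - a) / 2; (-1 + b - a) / 2, (1 - a - b) / 2]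
  have hd : M.det = 1 := by
    rw [Matrix.det_fin_two_of]
    field_simp
    linear_combination (-2) * hab
  let q : SLn 2 F := ⟨M, hd⟩
  have e1 : toP q * baseW F = baseB F * toP q := by
    rw [← map_mul, ← map_mul]
    refine H56.toP_eq_iff.2 ⟨1, by ring, ?_⟩
    show smat (baseS F) * M = (1 : F) • (M * smat (H5.EvenCyclic.wm F))
    rw [hsm, H5.EvenCyclic.wm_coe, one_smul]
    ext i j
    fin_cases i <;> fin_cases j <;> simp [M, Matrix.mul_apply, Fin.sum_univ_two] <;>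
      field_simp <;> first | linear_combination hab | linear_combination -hab | ring1
  have e2 : toP q * baseB F = baseW F * baseB F * toP q := by
    rw [← map_mul, ← map_mul, ← map_mul]
    refine H56.toP_eq_iff.2 ⟨1, by ring, ?_⟩
    show smat (H5.EvenCyclic.wm F) * smat (baseS F) * M = (1 : F) • (M * smat (baseS F))
    rw [hsm, H5.EvenCyclic.wm_coe, one_smul]
    ext i j
    fin_cases i <;> fin_cases j <;> simp [M, Matrix.mul_apply, Fin.sum_univ_two] <;>
      field_simp <;> first | linear_combination hab | linear_combination -hab | ring1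
  have c1 : toP q * baseW F * (toP q)⁻¹ = baseB F := by rw [e1, mul_inv_cancel_right]
  have c2 : toP q * baseB F * (toP q)⁻¹ = baseW F * baseB F := by rw [e2, mul_inv_cancel_right]
  refine ⟨toP q, ?_, c1⟩
  have hm : ∀ n ∈ baseFour F, toP q * n * (toP q)⁻¹ ∈ baseFour F := by
    intro n hn
    rcases (mem_baseFour h2 hcen).1 hn with rfl | rfl | rfl | rfl
    · rw [mul_one, mul_inv_cancel]; exact one_mem _
    · rw [c1]; exact (mem_baseFour h2 hcen).2 (Or.inr (Or.inr (Or.inl rfl)))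
    · rw [c2]; exact (mem_baseFour h2 hcen).2 (Or.inr (Or.inr (Or.inr rfl)))
    · rw [show toP q * (baseW F * baseB F) * (toP q)⁻¹ =
          (toP q * baseW F * (toP q)⁻¹) * (toP q * baseB F * (toP q)⁻¹) by group, c1, c2,
        hc.eq, ← mul_assoc, hB, one_mul]
      exact (mem_baseFour h2 hcen).2 (Or.inr (Or.inl rfl))
  haveI : Finite (baseFour F : Set (PSLn 2 F)) := Subtype.finite
  exact mem_normalizer_fintype fun n hn => hm n hn

end Cfsg.Agent.H97.TypeR

namespace Cfsg.Agent.H28.TypeR.Data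

open Subgroup Cfsg.Agent
open Cfsg.Agent.H97.TypeR

universe u

variable {G : Type u} [Group G] [Finite G] {F : Type} [Field F] [Fintype F] (D : Data G F)

theorem odd_card_field (D : Data G F) : Odd (Fintype.card F) :=
  Nat.odd_iff.2 (by have := D.mod_eight; omega)

theorem two_ne_zero' (D : Data G F) : (2 : F) ≠ 0 := H4.GW.two_ne D.odd_card_field

theorem center_psl (D : Data G F) : center (P2 F) = ⊥ := by
  rw [eq_bot_iff]
  intro x hx
  have hm : D.ψ x ∈ D.E ⊓ centralizer (D.ψ.range : Set G) :=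
    mem_inf.2 ⟨D.range_le ⟨x, rfl⟩, mem_centralizer_iff.2 (by
      rintro _ ⟨y, rfl⟩
      rw [← map_mul, ← map_mul, mem_center_iff.1 hx y])⟩
  rw [D.cent_bot, mem_bot] at hm
  exact mem_bot.2 (D.psi_inj (hm.trans (map_one _).symm))

theorem t_mul_self : D.t * D.t = 1 := by
  rw [← pow_two, ← D.invol, pow_orderOf_eq_one]

theorem commute_t {e : G} (he : e ∈ D.E) : Commute D.t e :=
  D.prod.2.2.1 D.t (mem_zpowers _) e he

theorem t_notMem : D.t ∉ D.E := fun h => by
  have hm : D.t ∈ zpowers D.t ⊓ D.E := mem_inf.2 ⟨mem_zpowers _, h⟩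
  rw [D.prod.2.2.2.1, mem_bot] at hm
  have := D.invol
  rw [hm, orderOf_one] at this
  norm_num at this

theorem E_le_centralizer : D.E ≤ centralizer ({D.t} : Set G) := D.prod.2.1

/-- `C(t) = ⟨t⟩ E`. -/
theorem exists_mem_E {x : G} (hx : x ∈ centralizer ({D.t} : Set G)) :
    ∃ e ∈ D.E, x = e ∨ x = D.t * e := by
  have hz : zpowers D.t ≤ normalizer (D.E : Set G) := zpowers_le.2 <| mem_normalizer_iff.2 fun y => by
    have hti : D.t⁻¹ = D.t := inv_eq_of_mul_eq_one_right D.t_mul_self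
    constructor <;> intro hy
    · rwa [(D.commute_t hy).eq, mul_inv_cancel_right]
    · have h2 := (D.commute_t hy).eq
      rw [show D.t * y * D.t⁻¹ * D.t = D.t * y by group] at h2
      have h3 : D.t * y * D.t⁻¹ = y := mul_left_cancel (a := D.t) h2
      rwa [h3] at hy
  rw [← D.prod.2.2.2.2, ← SetLike.mem_coe, coe_mul_of_left_le_normalizer_right _ _ hz] at hx
  obtain ⟨a, ha, e, he, rfl⟩ := hx
  obtain ⟨k, rfl⟩ := mem_zpowers_iff.1 ha
  refine ⟨e, he, ?_⟩
  rcases Int.even_or_odd' k with ⟨m, rfl | rfl⟩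
  · left; show D.t ^ (2 * m) * e = e
    rw [zpow_mul, zpow_two, D.t_mul_self, one_zpow, one_mul]
  · right; show D.t ^ (2 * m + 1) * e = D.t * e
    rw [zpow_add, zpow_mul, zpow_two, D.t_mul_self, one_zpow, one_mul, zpow_one]

/-- `E = E₀ Fo`. -/
theorem exists_psi_mul {x : G} (hx : x ∈ D.E) : ∃ a, ∃ y ∈ D.Fo, x = D.ψ a * y := by
  have hn : D.Fo ≤ normalizer (D.ψ.range : Set G) := fun y hy => mem_normalizer_iff.2 fun g => by
    constructor
    · exact D.psi_conj_mem hy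
    · intro hg
      have := D.psi_conj_mem (inv_mem hy) hg
      rwa [inv_inv, mul_assoc, mul_assoc, inv_mul_cancel, mul_one, inv_mul_cancel_left] at this
  rw [← D.Fo_sup, ← SetLike.mem_coe, coe_mul_of_right_le_normalizer_left _ _ hn] at hx
  obtain ⟨_, ⟨a, rfl⟩, y, hy, rfl⟩ := hx
  exact ⟨a, y, hy, rfl⟩

theorem range_psi_inf {y : G} (hy : y ∈ D.Fo) (hr : y ∈ D.ψ.range) : y = 1 := by
  have hm : y ∈ D.Fo ⊓ D.ψ.range := ⟨hy, hr⟩
  rwa [D.Fo_inf, mem_bot] at hm

theorem commute_Fo {y z : G} (hy : y ∈ D.Fo) (hz : z ∈ D.Fo) : Commute y z := by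
  haveI := D.isCyclic
  exact congrArg Subtype.val (IsCyclic.commGroup.mul_comm (⟨y, hy⟩ : ↥D.Fo) ⟨z, hz⟩)

/-- `y` commutes with `ψ a` exactly when `σ y` fixes `a`. -/
theorem commute_psi_iff (y : ↥D.Fo) (a : P2 F) :
    Commute (y : G) (D.ψ a) ↔ fieldAut (D.σ y) a = a := by
  rw [← D.psi_inj.eq_iff, ← D.conj, mul_inv_eq_iff_eq_mul]
  rfl

/-- The four group of `E₀` centralised by `Fo`. -/
noncomputable def four : Subgroup G := (baseFour F).map D.ψ

theorem four_le_range : D.four ≤ D.ψ.range := map_le_range _ _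

theorem four_le_E : D.four ≤ D.E := D.four_le_range.trans D.range_le

theorem card_four : Nat.card ↥D.four = 4 := by
  rw [four, card_map_of_injective D.psi_inj, card_baseFour D.two_ne_zero' D.center_psl]

theorem sq_four {v : G} (hv : v ∈ D.four) : v * v = 1 := by
  obtain ⟨a, ha, rfl⟩ := hv
  rw [← map_mul, sq_baseFour D.two_ne_zero' D.center_psl ha, map_one]

theorem commute_Fo_four {y v : G} (hy : y ∈ D.Fo) (hv : v ∈ D.four) : Commute y v := by
  obtain ⟨a, ha, rfl⟩ := hv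
  exact (D.commute_psi_iff ⟨y, hy⟩ a).2 (fix_baseFour D.two_ne_zero' D.center_psl _ ha)

/-- `C_E(V) = V Fo`. -/
theorem exists_four_mul {x : G} (hx : x ∈ D.E) (hxc : x ∈ centralizer (D.four : Set G)) :
    ∃ v ∈ D.four, ∃ y ∈ D.Fo, x = v * y := by
  obtain ⟨a, y, hy, rfl⟩ := D.exists_psi_mul hx
  refine ⟨D.ψ a, ⟨a, ?_, rfl⟩, y, hy, rfl⟩
  have hz : ∀ b ∈ baseFour F, b * a = a * b := fun b hb => D.psi_inj (by
    have hv : D.ψ b ∈ D.four := ⟨b, hb, rfl⟩
    have h1 := mem_centralizer_iff.1 hxc _ hv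
    have h2 := (D.commute_Fo_four hy hv).eq
    rw [map_mul, map_mul]
    apply mul_right_cancel (b := y)
    rw [mul_assoc, mul_assoc (D.ψ a) (D.ψ b), ← h2, ← mul_assoc (D.ψ a)]
    exact h1)
  obtain ⟨-, -, -, -⟩ := base_rel D.two_ne_zero'
  exact mem_centralizer_iff.2 (by
    simp only [Set.mem_insert_iff, Set.mem_singleton_iff, forall_eq_or_imp, forall_eq]
    exact ⟨hz _ ((mem_baseFour D.two_ne_zero' D.center_psl).2 (Or.inr (Or.inl rfl))),
      hz _ ((mem_baseFour D.two_ne_zero' D.center_psl).2 (Or.inr (Or.inr (Or.inl rfl))))⟩)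

/-- The Sylow 2-subgroup `⟨t⟩ × V`. -/
noncomputable def syl : Subgroup G where
  carrier := {x | ∃ v ∈ D.four, x = v ∨ x = D.t * v}
  one_mem' := ⟨1, one_mem _, Or.inl rfl⟩
  mul_mem' := by
    rintro a b ⟨v, hv, ha⟩ ⟨w, hw, hb⟩
    refine ⟨v * w, mul_mem hv hw, ?_⟩
    have hc := D.commute_t (D.four_le_E hv)
    rcases ha with rfl | rfl <;> rcases hb with rfl | rfl
    · exact Or.inl rfl
    · exact Or.inr (by rw [← mul_assoc, ← hc.eq, mul_assoc])
    · exact Or.inr (mul_assoc _ _ _)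
    · exact Or.inl (by
        rw [mul_assoc D.t v, ← mul_assoc v D.t, ← hc.eq, ← mul_assoc, ← mul_assoc, D.t_mul_self,
          one_mul])
  inv_mem' := by
    rintro a ⟨v, hv, ha⟩
    refine ⟨v, hv, ?_⟩
    have hv1 := inv_eq_of_mul_eq_one_right (D.sq_four hv)
    rcases ha with rfl | rfl
    · exact Or.inl hv1
    · exact Or.inr (by
        rw [mul_inv_rev, hv1, inv_eq_of_mul_eq_one_right D.t_mul_self,
          (D.commute_t (D.four_le_E hv)).eq])

theorem t_mem_syl : D.t ∈ D.syl := ⟨1, one_mem _, Or.inr (mul_one _).symm⟩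

theorem four_le_syl : D.four ≤ D.syl := fun v hv => ⟨v, hv, Or.inl rfl⟩

theorem syl_le_centralizer : D.syl ≤ centralizer ({D.t} : Set G) := by
  rintro x ⟨v, hv, rfl | rfl⟩ <;> rw [mem_centralizer_singleton_iff]
  · exact (D.commute_t (D.four_le_E hv)).eq.symm
  · rw [mul_assoc, ← (D.commute_t (D.four_le_E hv)).eq]

theorem sq_syl {x : G} (hx : x ∈ D.syl) : x * x = 1 := by
  obtain ⟨v, hv, rfl | rfl⟩ := hx
  · exact D.sq_four hv
  · rw [mul_assoc D.t v, ← mul_assoc v D.t, ← (D.commute_t (D.four_le_E hv)).eq, ← mul_assoc,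
      ← mul_assoc, D.t_mul_self, one_mul, D.sq_four hv]

theorem commute_syl {x y : G} (hx : x ∈ D.syl) (hy : y ∈ D.syl) : Commute x y := by
  have h := D.sq_syl (mul_mem hx hy)
  show x * y = y * x
  rw [← inv_eq_of_mul_eq_one_right h, mul_inv_rev, inv_eq_of_mul_eq_one_right (D.sq_syl hx),
    inv_eq_of_mul_eq_one_right (D.sq_syl hy)]

theorem mem_four_of_mem_syl {x : G} (hx : x ∈ D.syl) (hE : x ∈ D.E) : x ∈ D.four := by
  obtain ⟨v, hv, rfl | rfl⟩ := hx
  · exact hv
  · exact absurd ((D.E.mul_mem_cancel_right (D.four_le_E hv)).1 hE) D.t_notMem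

theorem card_syl : Nat.card ↥D.syl = 8 := by
  let f : Bool × ↥D.four → ↥D.syl := fun p =>
    if p.1 then ⟨D.t * p.2, p.2, p.2.2, Or.inr rfl⟩ else ⟨p.2, p.2, p.2.2, Or.inl rfl⟩
  have hf : Function.Bijective f := by
    constructor
    · rintro ⟨i, v⟩ ⟨j, w⟩ h
      have h' : (f (i, v) : G) = f (j, w) := congrArg Subtype.val h
      cases i <;> cases j <;> simp [f] at h'
      · rw [h']
      · exact absurd ((D.E.mul_mem_cancel_right (D.four_le_E w.2)).1 (h' ▸ D.four_le_E v.2)) D.t_notMem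
      · exact absurd ((D.E.mul_mem_cancel_right (D.four_le_E v.2)).1 (h'.symm ▸ D.four_le_E w.2))
          D.t_notMem
      · rw [h']
    · rintro ⟨x, v, hv, rfl | rfl⟩
      · exact ⟨(false, ⟨_, hv⟩), rfl⟩
      · exact ⟨(true, ⟨v, hv⟩), rfl⟩
  rw [← Nat.card_congr (Equiv.ofBijective f hf), Nat.card_prod, D.card_four,
    Nat.card_eq_fintype_card, Fintype.card_bool]

theorem isPGroup_syl : IsPGroup 2 ↥D.syl := IsPGroup.of_card (n := 3) (by rw [D.card_syl]; norm_num)

/-- `⟨t⟩ × V` is a Sylow 2-subgroup. -/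
theorem exists_sylow_eq : ∃ T : Sylow 2 G, (T : Subgroup G) = D.syl := by
  obtain ⟨T, hT⟩ := D.isPGroup_syl.exists_le_sylow
  exact ⟨T, (eq_of_le_of_card_ge hT (by rw [D.card_syl, D.sylow_card T])).symm⟩

theorem Fo_le_centralizer_syl : D.Fo ≤ centralizer (D.syl : Set G) := fun y hy => by
  refine mem_centralizer_iff.2 ?_
  rintro _ ⟨v, hv, rfl | rfl⟩
  · exact (D.commute_Fo_four hy hv).eq.symm
  · exact ((D.commute_t (D.Fo_le hy)).symm.mul_right (D.commute_Fo_four hy hv)).eq.symm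

theorem syl_inf_Fo {x : G} (hs : x ∈ D.syl) (hy : x ∈ D.Fo) : x = 1 := by
  have h1 : orderOf x ∣ 2 := orderOf_dvd_of_pow_eq_one (by rw [pow_two, D.sq_syl hs])
  have h2 : Odd (orderOf x) := D.Fo_odd.of_dvd_nat (orderOf_dvd_natCard D.Fo hy)
  exact orderOf_eq_one_iff.1
    (Nat.eq_one_of_dvd_coprimes (Nat.coprime_two_left.2 h2) h1 dvd_rfl)

/-- `C(S) = S Fo`. -/
theorem mem_centralizer_syl_iff {x : G} :
    x ∈ centralizer (D.syl : Set G) ↔ ∃ s ∈ D.syl, ∃ y ∈ D.Fo, x = s * y := by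
  constructor
  · intro hx
    obtain ⟨e, he, hxe⟩ := D.exists_mem_E
      (mem_centralizer_singleton_iff.2 (mem_centralizer_iff.1 hx _ D.t_mem_syl).symm)
    have hec : e ∈ centralizer (D.four : Set G) := mem_centralizer_iff.2 fun v hv => by
      have h1 := mem_centralizer_iff.1 hx v (D.four_le_syl hv)
      rcases hxe with rfl | rfl
      · exact h1
      · rw [← mul_assoc, ← (D.commute_t (D.four_le_E hv)).eq, mul_assoc, mul_assoc] at h1
        exact mul_left_cancel h1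
    obtain ⟨v, hv, y, hy, rfl⟩ := D.exists_four_mul he hec
    rcases hxe with rfl | rfl
    · exact ⟨v, D.four_le_syl hv, y, hy, rfl⟩
    · exact ⟨D.t * v, ⟨v, hv, Or.inr rfl⟩, y, hy, (mul_assoc _ _ _).symm⟩
  · rintro ⟨s, hs, y, hy, rfl⟩
    exact mul_mem (mem_centralizer_iff.2 fun z hz => (D.commute_syl hz hs).eq)
      (D.Fo_le_centralizer_syl hy)

theorem centralizer_syl : centralizer (D.syl : Set G) = D.syl ⊔ D.Fo := by
  refine le_antisymm (fun x hx => ?_) (sup_le (fun s hs => ?_) D.Fo_le_centralizer_syl)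
  · obtain ⟨s, hs, y, hy, rfl⟩ := D.mem_centralizer_syl_iff.1 hx
    exact mul_mem (mem_sup_left hs) (mem_sup_right hy)
  · exact mem_centralizer_iff.2 fun z hz => (D.commute_syl hz hs).eq

/-- The elements of odd order of `C(S)` are those of `Fo`. -/
theorem mem_Fo_of_odd {x : G} (hx : x ∈ centralizer (D.syl : Set G)) (ho : Odd (orderOf x)) :
    x ∈ D.Fo := by
  obtain ⟨s, hs, y, hy, rfl⟩ := D.mem_centralizer_syl_iff.1 hx
  have hc : Commute s y := (mem_centralizer_iff.1 (D.Fo_le_centralizer_syl hy) s hs)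
  have hm : Odd (orderOf (s * y) * Nat.card ↥D.Fo) := ho.mul D.Fo_odd
  obtain ⟨k, hk⟩ := hm
  have h1 : (s * y) ^ (2 * k + 1) = 1 := by rw [← hk, pow_mul, pow_orderOf_eq_one, one_pow]
  have h2 : y ^ (2 * k + 1) = 1 := by
    rw [← hk, mul_comm, pow_mul]
    have : (⟨y, hy⟩ : ↥D.Fo) ^ Nat.card ↥D.Fo = 1 := pow_card_eq_one'
    rw [show y ^ Nat.card ↥D.Fo = 1 from congrArg Subtype.val this, one_pow]
  rw [hc.mul_pow, h2, mul_one, pow_succ, pow_mul, pow_two, D.sq_syl hs, one_pow, one_mul] at h1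
  rw [h1, one_mul]; exact hy

theorem centralizer_syl_le_normalizer :
    centralizer (D.syl : Set G) ≤ normalizer (D.syl : Set G) := fun x hx => by
  refine mem_normalizer_iff.2 fun z => ⟨fun hz => ?_, fun hz => ?_⟩
  · rwa [← mem_centralizer_iff.1 hx z hz, mul_inv_cancel_right]
  · have h := mem_centralizer_iff.1 (inv_mem hx) _ hz
    rw [show x⁻¹ * (x * z * x⁻¹) = z * x⁻¹ by group] at h
    rwa [mul_right_cancel h] at hz

/-- `N(S)` normalises `Fo`. -/
theorem conj_mem_Fo {n y : G} (hn : n ∈ normalizer (D.syl : Set G)) (hy : y ∈ D.Fo) :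
    n * y * n⁻¹ ∈ D.Fo := by
  refine D.mem_Fo_of_odd (mem_centralizer_iff.2 fun s hs => ?_) ?_
  · have h := mem_centralizer_iff.1 (D.Fo_le_centralizer_syl hy) (n⁻¹ * s * n) (by
      have := (mem_normalizer_iff.1 (inv_mem hn) s).1 hs
      rwa [inv_inv] at this)
    calc s * (n * y * n⁻¹) = n * (n⁻¹ * s * n * y) * n⁻¹ := by group
      _ = n * (y * (n⁻¹ * s * n)) * n⁻¹ := by rw [h]
      _ = n * y * n⁻¹ * s := by group
  · rw [show n * y * n⁻¹ = MulAut.conj n y from rfl, MulEquiv.orderOf_eq]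
    exact D.Fo_odd.of_dvd_nat (orderOf_dvd_natCard D.Fo hy)

/-- `N(S) ∩ C(t)` centralises `Fo`. -/
theorem commute_of_fix_t {n y : G} (hn : n ∈ normalizer (D.syl : Set G))
    (ht : Commute n D.t) (hy : y ∈ D.Fo) : Commute n y := by
  obtain ⟨e, he, hne⟩ := D.exists_mem_E (mem_centralizer_singleton_iff.2 ht.eq)
  have hen : e ∈ normalizer (D.syl : Set G) := by
    rcases hne with rfl | rfl
    · exact hn
    · exact ((normalizer (D.syl : Set G)).mul_mem_cancel_left
        (le_normalizer D.t_mem_syl)).1 hn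
  obtain ⟨a, z, hz, rfl⟩ := D.exists_psi_mul he
  have hk : D.ψ a ∈ normalizer (D.syl : Set G) :=
    ((normalizer (D.syl : Set G)).mul_mem_cancel_right
      (D.centralizer_syl_le_normalizer (D.Fo_le_centralizer_syl hz))).1 hen
  have hkr : D.ψ a * y * (D.ψ a)⁻¹ * y⁻¹ ∈ D.ψ.range := by
    rw [show D.ψ a * y * (D.ψ a)⁻¹ * y⁻¹ = D.ψ a * (y * (D.ψ a)⁻¹ * y⁻¹) by group]
    exact mul_mem ⟨a, rfl⟩ (D.psi_conj_mem hy (inv_mem ⟨a, rfl⟩))
  have h1 := D.range_psi_inf (mul_mem (D.conj_mem_Fo hk hy) (inv_mem hy)) hkr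
  have hky : Commute (D.ψ a) y := mul_inv_eq_iff_eq_mul.1 (mul_inv_eq_one.1 h1)
  have hey : Commute (D.ψ a * z) y := hky.mul_left (D.commute_Fo hz hy)
  rcases hne with rfl | rfl
  · exact hey
  · exact (D.commute_t (D.Fo_le hy)).mul_left hey

/-- The involutions of `S` are conjugate to `t` in `N(S)`. -/
theorem exists_normalizer_conj {s : G} (hs : s ∈ D.syl) (ho : orderOf s = 2) :
    ∃ n ∈ normalizer (D.syl : Set G), n * D.t * n⁻¹ = s := by
  haveI : Fact (Nat.Prime 2) := ⟨Nat.prime_two⟩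
  obtain ⟨T, hT⟩ := D.exists_sylow_eq
  haveI := D.absyl T
  obtain ⟨c, hc⟩ := isConj_iff.1 (D.conj_invol _ _ D.invol ho)
  obtain ⟨n, hn, h⟩ := T.conj_eq_normalizer_conj_of_mem D.t c⁻¹
    (show D.t ∈ (T : Subgroup G) by rw [hT]; exact D.t_mem_syl)
    (show _ ∈ (T : Subgroup G) by rw [inv_inv, hc, hT]; exact hs)
  rw [inv_inv, hc] at h
  replace hn : n ∈ normalizer ((T : Subgroup G) : Set G) := hn
  rw [hT] at hn
  exact ⟨n⁻¹, inv_mem hn, by rw [inv_inv, h]⟩

/-- `N(S)` centralises `Fo`. -/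
theorem normalizer_syl_le : normalizer (D.syl : Set G) ≤ centralizer (D.Fo : Set G) := by
  classical
  set N := normalizer (D.syl : Set G) with hN
  letI : MulAction ↥N G := MulAction.compHom G ((MulAut.conj (G := G)).comp N.subtype)
  have hsmul : ∀ (n : ↥N) (x : G), n • x = (n : G) * x * (n : G)⁻¹ := fun n x => rfl
  set K : Subgroup ↥N := (centralizer (D.Fo : Set G)).subgroupOf N with hK
  set St : Subgroup ↥N := MulAction.stabilizer ↥N D.t with hSt
  have hle : St ≤ K := fun n hn => mem_subgroupOf.2 <| mem_centralizer_iff.2 fun y hy => by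
    have h : (n : G) * D.t * (n : G)⁻¹ = D.t := (hsmul n D.t).symm.trans hn
    exact (D.commute_of_fix_t n.2 (mul_inv_eq_iff_eq_mul.1 h) hy).eq.symm
  have horb : MulAction.orbit ↥N D.t = (D.syl : Set G) \ {1} := by
    ext x
    constructor
    · rintro ⟨n, rfl⟩
      show (n : G) * D.t * (n : G)⁻¹ ∈ _
      refine ⟨(mem_normalizer_iff.1 n.2 _).1 D.t_mem_syl, fun h => ?_⟩
      have := D.invol
      rw [conj_eq_one_iff.1 h, orderOf_one] at this
      norm_num at this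
    · rintro ⟨hx, hx1⟩
      obtain ⟨n, hn, h⟩ := D.exists_normalizer_conj hx
        (orderOf_eq_prime (by rw [pow_two]; exact D.sq_syl hx) hx1)
      exact ⟨⟨n, hn⟩, h⟩
  have hidx : St.index = 7 := by
    rw [hSt, MulAction.index_stabilizer, horb, Set.ncard_sdiff_singleton_of_mem (one_mem _),
      ← Nat.card_coe_set_eq, SetLike.coe_sort_coe, D.card_syl]
  have hnorm : K.Normal := ⟨fun k hk n => by
    rw [hK, mem_subgroupOf, mem_centralizer_iff] at hk ⊢
    intro y hy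
    have h := hk _ (by
      have := D.conj_mem_Fo (inv_mem n.2) hy
      rwa [inv_inv] at this)
    simp only [Subgroup.coe_mul, Subgroup.coe_inv]
    calc y * ((n : G) * k * (n : G)⁻¹) = (n : G) * ((n : G)⁻¹ * y * n * k) * (n : G)⁻¹ := by group
      _ = (n : G) * (k * ((n : G)⁻¹ * y * n)) * (n : G)⁻¹ := by rw [h]
      _ = (n : G) * k * (n : G)⁻¹ * y := by group⟩
  -- some element of the kernel moves `t`
  have hne : ¬ K ≤ St := by
    intro hKS
    obtain ⟨q, hq, hqW⟩ := exists_rot D.two_ne_zero' D.center_psl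
    obtain ⟨-, -, -, hW1, -, hWB⟩ := base_rel D.two_ne_zero'
    have hqc : Commute (D.ψ q) D.t := (D.commute_t (D.range_le ⟨q, rfl⟩)).symm
    have hqn : D.ψ q ∈ N := by
      haveI : Finite (D.syl : Set G) := Subtype.finite
      refine mem_normalizer_fintype fun x hx => ?_
      obtain ⟨_, ⟨b, hb, rfl⟩, rfl | rfl⟩ := hx
      · exact ⟨D.ψ (q * b * q⁻¹), ⟨_, (mem_normalizer_iff.1 hq b).1 hb, rfl⟩,
          Or.inl (by rw [map_mul, map_mul, map_inv])⟩
      · exact ⟨D.ψ (q * b * q⁻¹), ⟨_, (mem_normalizer_iff.1 hq b).1 hb, rfl⟩,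
          Or.inr (by rw [← mul_assoc (D.ψ q), hqc.eq, map_mul, map_mul, map_inv]; group)⟩
    have hw : D.ψ (baseW F) ∈ D.syl := D.four_le_syl
      ⟨_, (mem_baseFour D.two_ne_zero' D.center_psl).2 (Or.inr (Or.inl rfl)), rfl⟩
    have hw1 : D.ψ (baseW F) ≠ 1 := fun e => hW1 (D.psi_inj (e.trans (map_one _).symm))
    obtain ⟨n, hn, hnt⟩ := D.exists_normalizer_conj hw
      (orderOf_eq_prime (by rw [pow_two]; exact D.sq_syl hw) hw1)
    have hqK : (⟨D.ψ q, hqn⟩ : ↥N) ∈ K := hle (by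
      show (D.ψ q) * D.t * (D.ψ q)⁻¹ = D.t
      rw [hqc.eq, mul_inv_cancel_right])
    have h := hKS (hnorm.conj_mem _ hqK (⟨n, hn⟩ : ↥N)⁻¹)
    have h' : n⁻¹ * D.ψ q * n * D.t * (n⁻¹ * D.ψ q * n)⁻¹ = D.t := by
      have h'' : ((⟨n, hn⟩ : ↥N)⁻¹ * ⟨D.ψ q, hqn⟩ * (⟨n, hn⟩ : ↥N)⁻¹⁻¹) • D.t = D.t := h
      rw [hsmul] at h''
      simpa only [Subgroup.coe_mul, Subgroup.coe_inv, inv_inv] using h''
    refine hWB (D.psi_inj ?_)
    rw [← hqW, map_mul, map_mul, map_inv, ← hnt]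
    calc n * D.t * n⁻¹ = n * (n⁻¹ * D.ψ q * n * D.t * (n⁻¹ * D.ψ q * n)⁻¹) * n⁻¹ := by rw [h']
      _ = D.ψ q * (n * D.t * n⁻¹) * (D.ψ q)⁻¹ := by group
  have hdvd : K.index ∣ 7 := hidx ▸ index_dvd_of_le hle
  rcases (Nat.dvd_prime (by norm_num)).1 hdvd with h | h
  · intro n hn
    have : (⟨n, hn⟩ : ↥N) ∈ K := (index_eq_one.1 h).symm ▸ mem_top _
    exact mem_subgroupOf.1 this
  · exfalso
    refine hne ?_
    have hm := relIndex_mul_index hle
    rw [h, hidx] at hm
    exact relIndex_eq_one.1 (by omega)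

/-- `N(S)` fuses the involutions of `S` and centralises `Fo`. -/
theorem exists_normalizer_fix {s : G} (hs : s ∈ D.syl) (ho : orderOf s = 2) :
    ∃ n ∈ normalizer (D.syl : Set G), n * D.t * n⁻¹ = s ∧ ∀ y ∈ D.Fo, Commute n y := by
  obtain ⟨n, hn, h⟩ := D.exists_normalizer_conj hs ho
  exact ⟨n, hn, h, fun y hy => (mem_centralizer_iff.1 (D.normalizer_syl_le hn) y hy).symm⟩

/-- Conjugate elements of `Fo` are equal. -/
theorem eq_of_conj {g y : G} (hy : y ∈ D.Fo) (hg : g * y * g⁻¹ ∈ D.Fo) : g * y * g⁻¹ = y := by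
  haveI : Fact (Nat.Prime 2) := ⟨Nat.prime_two⟩
  obtain ⟨T, hT⟩ := D.exists_sylow_eq
  obtain ⟨n, hn, h⟩ := T.conj_eq_normalizer_conj_of_mem_centralizer y g⁻¹
    (show _ ∈ centralizer ((T : Subgroup G) : Set G) by rw [hT]; exact D.Fo_le_centralizer_syl hy)
    (show _ ∈ centralizer ((T : Subgroup G) : Set G) by
      rw [inv_inv, hT]; exact D.Fo_le_centralizer_syl hg)
  replace hn : n ∈ normalizer ((T : Subgroup G) : Set G) := hn
  rw [hT] at hn
  rw [inv_inv] at h
  rw [h, mul_assoc, mem_centralizer_iff.1 (D.normalizer_syl_le hn) y hy, inv_mul_cancel_left]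

theorem normalizer_zpowers_le {y : G} (hy : y ∈ D.Fo) :
    normalizer (zpowers y : Set G) ≤ centralizer ({y} : Set G) := fun g hg => by
  have hm := (mem_normalizer_iff.1 hg y).1 (mem_zpowers y)
  exact mem_centralizer_singleton_iff.2
    (mul_inv_eq_iff_eq_mul.1 (D.eq_of_conj hy (zpowers_le.2 hy hm)))

/-- `N(⟨y⟩) = C(y)` for `y ∈ Fo`. -/
theorem normalizer_zpowers {y : G} (hy : y ∈ D.Fo) :
    normalizer (zpowers y : Set G) = centralizer ({y} : Set G) := by
  refine le_antisymm (D.normalizer_zpowers_le hy) fun g hg => mem_normalizer_iff.2 fun z => ?_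
  have hc : Commute g y := mem_centralizer_singleton_iff.1 hg
  constructor
  · intro hz
    obtain ⟨k, rfl⟩ := mem_zpowers_iff.1 hz
    rw [(hc.zpow_right k).eq, mul_inv_cancel_right]
    exact hz
  · intro hz
    obtain ⟨k, hk⟩ := mem_zpowers_iff.1 hz
    have h : z = g⁻¹ * (g * z * g⁻¹) * g := by group
    rw [h, ← hk, mul_assoc, ← (hc.zpow_right k).eq, inv_mul_cancel_left]
    exact zpow_mem (mem_zpowers y) k

/-- No non-trivial element of `Fo` is inverted. -/
theorem not_inverted {g y : G} (hy : y ∈ D.Fo) (h : g * y * g⁻¹ = y⁻¹) : y = 1 := by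
  have h1 := D.eq_of_conj hy (h ▸ inv_mem hy)
  rw [h] at h1
  exact D.syl_inf_Fo (by
    have h2 : y * y = 1 := by nth_rw 1 [← h1]; exact inv_mul_cancel y
    have hyo : Odd (orderOf y) := D.Fo_odd.of_dvd_nat (orderOf_dvd_natCard D.Fo hy)
    have h3 : orderOf y ∣ 2 := orderOf_dvd_of_pow_eq_one (by rw [pow_two, h2])
    rw [orderOf_eq_one_iff.1
      (Nat.eq_one_of_dvd_coprimes (Nat.coprime_two_left.2 hyo) h3 dvd_rfl)]
    exact one_mem _) hy

/-- `E / E₀` is abelian. -/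
theorem commutator_mem_range {a b : G} (ha : a ∈ D.E) (hb : b ∈ D.E) :
    a * b * a⁻¹ * b⁻¹ ∈ D.ψ.range := by
  obtain ⟨p, y, hy, rfl⟩ := D.exists_psi_mul ha
  obtain ⟨q, z, hz, rfl⟩ := D.exists_psi_mul hb
  have hzy : z * y⁻¹ = y⁻¹ * z := (D.commute_Fo hz (inv_mem hy)).eq
  have : D.ψ p * y * (D.ψ q * z) * (D.ψ p * y)⁻¹ * (D.ψ q * z)⁻¹ =
      D.ψ p * (y * D.ψ q * y⁻¹) * (z * (D.ψ p)⁻¹ * z⁻¹) * (D.ψ q)⁻¹ := by
    calc _ = D.ψ p * y * D.ψ q * (z * y⁻¹) * (D.ψ p)⁻¹ * z⁻¹ * (D.ψ q)⁻¹ := by group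
      _ = _ := by rw [hzy]; group
  rw [this]
  exact mul_mem (mul_mem (mul_mem ⟨p, rfl⟩ (D.psi_conj_mem hy ⟨q, rfl⟩))
    (D.psi_conj_mem hz (inv_mem ⟨p, rfl⟩))) (inv_mem ⟨q, rfl⟩)

/-- The data in the shape of the Walter pieces. -/
theorem rdata : H50.Walter.RData D.t D.E D.ψ.range where
  ord := D.invol
  prod := D.prod
  le := D.range_le
  normal := ⟨fun n hn g => by
    rw [mem_subgroupOf] at hn ⊢
    obtain ⟨a, z, hz, hg⟩ := D.exists_psi_mul g.2
    simp only [Subgroup.coe_mul, Subgroup.coe_inv]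
    rw [hg, show D.ψ a * z * (n : G) * (D.ψ a * z)⁻¹ =
      D.ψ a * (z * (n : G) * z⁻¹) * (D.ψ a)⁻¹ by group]
    exact mul_mem (mul_mem ⟨a, rfl⟩ (D.psi_conj_mem hz hn)) (inv_mem ⟨a, rfl⟩)⟩
  psl := ⟨F, inferInstance, inferInstance, D.five, D.mod_eight,
    ⟨(MonoidHom.ofInjective D.psi_inj).symm⟩⟩
  cent := D.cent_bot

/-- An odd element of `C(t)` lies in `E`. -/
theorem mem_E_of_odd {x : G} (hx : x ∈ centralizer ({D.t} : Set G)) (ho : Odd (orderOf x)) :
    x ∈ D.E := by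
  obtain ⟨e, he, rfl | rfl⟩ := D.exists_mem_E hx
  · exact he
  exfalso
  obtain ⟨k, hk⟩ := ho
  have h1 : (D.t * e) ^ (2 * k + 1) = 1 := by rw [← hk, pow_orderOf_eq_one]
  rw [(D.commute_t he).mul_pow, pow_succ D.t, pow_mul, pow_two, D.t_mul_self, one_pow,
    one_mul] at h1
  exact D.t_notMem (eq_inv_of_mul_eq_one_left h1 ▸ inv_mem (pow_mem he _))

/-- `Fo` meets the derived group of `C(t)` trivially. -/
theorem Fo_inf_commutator :
    D.Fo ⊓ ⁅centralizer ({D.t} : Set G), centralizer ({D.t} : Set G)⁆ = ⊥ := by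
  rw [eq_bot_iff]
  rintro y ⟨hy, hc⟩
  refine mem_bot.2 (D.range_psi_inf hy ?_)
  refine (commutator_le.2 fun g hg h hh => ?_) hc
  obtain ⟨a, ha, hga⟩ := D.exists_mem_E hg
  obtain ⟨b, hb, hhb⟩ := D.exists_mem_E hh
  have hta := (D.commute_t ha).eq
  have htb := (D.commute_t hb).eq
  have hti : D.t⁻¹ = D.t := inv_eq_of_mul_eq_one_right D.t_mul_self
  have key : g * h * g⁻¹ * h⁻¹ = a * b * a⁻¹ * b⁻¹ := by
    have hL : ∀ c : G, Commute D.t c → ∀ x : G,
        D.t * c * x * (D.t * c)⁻¹ = D.t * (c * x * c⁻¹) * D.t⁻¹ := fun c _ x => by group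
    have hc2 : ∀ c : G, Commute D.t c → D.t * c * D.t⁻¹ = c := fun c hc => by
      rw [hc.eq, mul_inv_cancel_right]
    rcases hga with rfl | rfl <;> rcases hhb with rfl | rfl
    · rfl
    · rw [show g * (D.t * b) * g⁻¹ = D.t * (g * b * g⁻¹) by
        rw [← mul_assoc g, ← hta]; group, mul_inv_rev, hti,
        (D.commute_t (mul_mem (mul_mem ha hb) (inv_mem ha))).eq,
        (D.commute_t (inv_mem hb)).eq.symm]
      rw [show g * b * g⁻¹ * D.t * (D.t * b⁻¹) = g * b * g⁻¹ * (D.t * D.t) * b⁻¹ by group,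
        D.t_mul_self, mul_one]
    · rw [hL a (D.commute_t ha) h, hc2 _ (D.commute_t (mul_mem (mul_mem ha hb) (inv_mem ha)))]
    · rw [hL a (D.commute_t ha), show a * (D.t * b) * a⁻¹ = D.t * (a * b * a⁻¹) by
        rw [← mul_assoc a, ← hta]; group, hc2 _ ((Commute.refl _).mul_right
          (D.commute_t (mul_mem (mul_mem ha hb) (inv_mem ha)))), mul_inv_rev, hti,
        (D.commute_t (mul_mem (mul_mem ha hb) (inv_mem ha))).eq,
        (D.commute_t (inv_mem hb)).eq.symm]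
      rw [show a * b * a⁻¹ * D.t * (D.t * b⁻¹) = a * b * a⁻¹ * (D.t * D.t) * b⁻¹ by group,
        D.t_mul_self, mul_one]
  rw [commutatorElement_def, key]
  exact D.commutator_mem_range ha hb

/-- `C_{E₀}(y) ≅ PSL₂` of the fixed field of `σ y`. -/
theorem centralizer_equiv (y : ↥D.Fo) :
    Nonempty (↥(D.ψ.range ⊓ centralizer ({(y : G)} : Set G)) ≃*
      H56.PSLn 2 (H58.Descent.fixedField (D.σ y : F ≃+* F))) := by
  have hσ : Odd (orderOf (D.σ y)) :=
    D.Fo_odd.of_dvd_nat ((orderOf_map_dvd _ y).trans (orderOf_dvd_natCard y))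
  have hmap : D.ψ.range ⊓ centralizer ({(y : G)} : Set G) =
      (fixHom (D.σ y : F ≃+* F)).range.map D.ψ := by
    ext x
    constructor
    · rintro ⟨⟨a, rfl⟩, hx⟩
      exact ⟨a, (mem_range_fixHom D.odd_card_field hσ a).2 ((D.commute_psi_iff y a).1
        (mem_centralizer_singleton_iff.1 hx : Commute (D.ψ a) (y : G)).symm), rfl⟩
    · rintro ⟨a, ha, rfl⟩
      exact ⟨⟨a, rfl⟩, mem_centralizer_singleton_iff.2 ((D.commute_psi_iff y a).2
        ((mem_range_fixHom D.odd_card_field hσ a).1 ha)).symm.eq⟩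
  exact ⟨((MulEquiv.subgroupCongr hmap).trans
    ((fixHom (D.σ y : F ≃+* F)).range.equivMapOfInjective D.ψ D.psi_inj).symm).trans
    ((QuotientGroup.quotientKerEquivRange _).symm.trans
      (QuotientGroup.quotientMulEquivOfEq (ker_fixHom _)))⟩

/-- `C(t) ∩ C(y) = ⟨t⟩ × C_{E₀}(y) Fo`. -/
theorem exists_of_mem_centralizer_inf {x : G} (y : ↥D.Fo)
    (hx : x ∈ centralizer ({D.t} : Set G)) (hy : Commute x (y : G)) :
    ∃ a, ∃ z ∈ D.Fo, fieldAut (D.σ y) a = a ∧ (x = D.ψ a * z ∨ x = D.t * (D.ψ a * z)) := by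
  obtain ⟨e, he, hxe⟩ := D.exists_mem_E hx
  obtain ⟨a, z, hz, rfl⟩ := D.exists_psi_mul he
  refine ⟨a, z, hz, (D.commute_psi_iff y a).1 ?_, hxe⟩
  have hzy := D.commute_Fo hz y.2
  have hey : Commute (D.ψ a * z) (y : G) := by
    rcases hxe with rfl | rfl
    · exact hy
    · have h := (D.commute_t (D.Fo_le y.2)).mul_left hy
      rwa [← mul_assoc, D.t_mul_self, one_mul] at h
  have h := hey.mul_left (hzy.inv_left)
  rw [mul_inv_cancel_right] at h
  exact h.symm

section Prime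

variable {r : ℕ} [Fact r.Prime]
include D

/-- A Sylow subgroup of `Fo` for a prime not dividing `|PSL₂(F)|` is one of `E`. -/
theorem exists_sylow_map (hr : ¬ r ∣ Nat.card (P2 F)) (Q : Sylow r ↥D.Fo) :
    ∃ P : Sylow r ↥D.E, (P : Subgroup ↥D.E).map D.E.subtype = (Q : Subgroup ↥D.Fo).map D.Fo.subtype := by
  let i : ↥D.Fo →* ↥D.E := inclusion D.Fo_le
  have hc : Nat.card ↥D.E = Nat.card ↥D.Fo * Nat.card (P2 F) := by
    have h1 := (D.ψ.range.subgroupOf D.E).card_mul_index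
    rw [Nat.card_congr (subgroupOfEquivOfLe D.range_le).toEquiv,
      ← Nat.card_congr (MonoidHom.ofInjective D.psi_inj).toEquiv] at h1
    have hcom : IsComplement' (D.ψ.range.subgroupOf D.E) i.range := by
      refine isComplement'_of_disjoint_and_mul_eq_univ ?_ ?_
      · rw [disjoint_iff, eq_bot_iff]
        rintro x ⟨hx, y, rfl⟩
        rw [mem_bot]
        exact Subtype.ext (D.range_psi_inf y.2 (mem_subgroupOf.1 hx))
      · refine Set.eq_univ_of_forall fun x => ?_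
        obtain ⟨a, y, hy, hxy⟩ := D.exists_psi_mul x.2
        exact ⟨⟨D.ψ a, D.range_le ⟨a, rfl⟩⟩, mem_subgroupOf.2 ⟨a, rfl⟩, i ⟨y, hy⟩, ⟨_, rfl⟩,
          Subtype.ext hxy.symm⟩
    rw [← hcom.card_mul_card, Nat.card_congr (subgroupOfEquivOfLe D.range_le).toEquiv,
      ← Nat.card_congr (MonoidHom.ofInjective D.psi_inj).toEquiv,
      ← Nat.card_congr (MonoidHom.ofInjective (inclusion_injective D.Fo_le)).toEquiv, mul_comm]
  have hcard : Nat.card ↥((Q : Subgroup ↥D.Fo).map i) =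
      r ^ (Nat.card ↥D.E).factorization r := by
    rw [card_map_of_injective (inclusion_injective D.Fo_le), Q.card_eq_multiplicity, hc,
      Nat.factorization_mul Nat.card_pos.ne' Nat.card_pos.ne', Finsupp.add_apply,
      Nat.factorization_eq_zero_of_not_dvd hr, add_zero]
  refine ⟨Sylow.ofCard _ hcard, ?_⟩
  rw [Sylow.coe_ofCard, map_map]
  rfl

/-- An `r`-element of `C(t)` is conjugate into `Fo`, `r ∤ |PSL₂(F)|`. -/
theorem exists_conj_mem_Fo (hr : ¬ r ∣ Nat.card (P2 F)) {x : G}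
    (hx : x ∈ centralizer ({D.t} : Set G)) {k : ℕ} (hk : x ^ r ^ k = 1) :
    ∃ c ∈ D.E, c * x * c⁻¹ ∈ D.Fo := by
  have hr2 : r ≠ 2 := fun e => hr (e ▸ (Nat.dvd_of_mod_eq_zero (by
    have := H29.Walter.card_mod_eight (D.isOddPSL)
    omega)))
  have hE : x ∈ D.E := D.mem_E_of_odd hx
    (((Fact.out : r.Prime).odd_of_ne_two hr2).pow.of_dvd_nat (orderOf_dvd_of_pow_eq_one hk))
  obtain ⟨Q⟩ : Nonempty (Sylow r ↥D.Fo) := inferInstance
  obtain ⟨P, hP⟩ := D.exists_sylow_map hr Q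
  have hz : IsPGroup r ↥(zpowers (⟨x, hE⟩ : ↥D.E)) := by
    obtain ⟨j, -, hj⟩ := (Nat.dvd_prime_pow Fact.out).1
      (orderOf_dvd_of_pow_eq_one (show (⟨x, hE⟩ : ↥D.E) ^ r ^ k = 1 from Subtype.ext hk))
    exact IsPGroup.of_card (n := j) (by rw [Nat.card_zpowers, hj])
  obtain ⟨P', hP'⟩ := hz.exists_le_sylow
  obtain ⟨c, hc⟩ := MulAction.exists_smul_eq ↥D.E P' P
  refine ⟨c, c.2, ?_⟩
  have hm : c * ⟨x, hE⟩ * c⁻¹ ∈ (P : Subgroup ↥D.E) := by
    rw [← hc]
    exact ⟨⟨x, hE⟩, hP' (mem_zpowers _), rfl⟩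
  have := mem_map_of_mem D.E.subtype hm
  rw [hP] at this
  exact map_subtype_le _ this

/-- An `r`-element centralised by an involution is not inverted, `r ∤ |PSL₂(F)|`. -/
theorem not_inverted_of_invol (hr : ¬ r ∣ Nat.card (P2 F)) {x u g : G} (hu : orderOf u = 2)
    (hux : Commute u x) {k : ℕ} (hk : x ^ r ^ k = 1) (hg : g * x * g⁻¹ = x⁻¹) : x = 1 := by
  obtain ⟨d, hd⟩ := isConj_iff.1 (D.conj_invol u D.t hu D.invol)
  have hx' : d * x * d⁻¹ ∈ centralizer ({D.t} : Set G) := by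
    rw [mem_centralizer_singleton_iff, ← hd]
    calc d * x * d⁻¹ * (d * u * d⁻¹) = d * (x * u) * d⁻¹ := by group
      _ = d * (u * x) * d⁻¹ := by rw [hux.eq]
      _ = d * u * d⁻¹ * (d * x * d⁻¹) := by group
  obtain ⟨c, -, hc⟩ := D.exists_conj_mem_Fo hr hx' (k := k) (by
    rw [show d * x * d⁻¹ = MulAut.conj d x from rfl, ← map_pow, hk, map_one])
  have h1 := D.not_inverted (g := c * d * g * (c * d)⁻¹) hc (by
    rw [show c * d * g * (c * d)⁻¹ * (c * (d * x * d⁻¹) * c⁻¹) * (c * d * g * (c * d)⁻¹)⁻¹ =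
      c * (d * (g * x * g⁻¹) * d⁻¹) * c⁻¹ by group, hg]
    group)
  rwa [conj_eq_one_iff, conj_eq_one_iff] at h1

/-- An `r`-subgroup of `C(t)` above a Sylow subgroup of `Fo` equals it, `r ∤ |PSL₂(F)|`. -/
theorem eq_of_isPGroup (hr : ¬ r ∣ Nat.card (P2 F)) (Q : Sylow r ↥D.Fo) {R : Subgroup G}
    (hR : IsPGroup r ↥R) (hRt : R ≤ centralizer ({D.t} : Set G))
    (hQR : (Q : Subgroup ↥D.Fo).map D.Fo.subtype ≤ R) :
    R = (Q : Subgroup ↥D.Fo).map D.Fo.subtype := by
  have hr2 : r ≠ 2 := fun e => hr (e ▸ (Nat.dvd_of_mod_eq_zero (by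
    have := H29.Walter.card_mod_eight (D.isOddPSL)
    omega)))
  have hRE : R ≤ D.E := fun x hx => D.mem_E_of_odd (hRt hx) (by
    obtain ⟨j, hj⟩ := hR ⟨x, hx⟩
    exact (((Fact.out : r.Prime).odd_of_ne_two hr2).pow).of_dvd_nat
      (orderOf_dvd_of_pow_eq_one (congrArg Subtype.val hj)))
  obtain ⟨P, hP⟩ := D.exists_sylow_map hr Q
  have hsub : (P : Subgroup ↥D.E) ≤ R.subgroupOf D.E := fun x hx =>
    mem_subgroupOf.2 (hQR (hP ▸ mem_map_of_mem D.E.subtype hx))
  have heq := P.is_maximal' (hR.comap_subtype) hsub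
  rw [← hP, ← heq]
  exact (map_comap_eq_self (by rw [range_subtype]; exact hRE)).symm

end Prime

end Cfsg.Agent.H28.TypeR.Data
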