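import Cfsg.Agent.H50.Walter.PieceR
import Cfsg.Agent.H97.TypeR.FieldAut

/-!
# Type R: the field part of an involution centraliser

`E = E₀ ⋊ Φ`, where `Φ` is the odd part of the centraliser in `E` of a four group `V ≤ E₀`; `Φ`
embeds in the Galois group of the field of `E₀`.
-/

set_option autoImplicit false
set_option linter.unusedSectionVars false
set_option linter.style.haveILetI false

namespace Cfsg.Agent.H97.TypeR

open Subgroup Cfsg.Agent
open Cfsg.Agent.H50.Walter (RData)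

universe u

variable {G : Type u} [Group G] [Finite G]

local instance fact_two_four : Fact (Nat.Prime 2) := ⟨Nat.prime_two⟩

theorem mul_self_two {G : Type*} [Group G] {x : G} (h : orderOf x = 2) : x * x = 1 := by
  have e := pow_orderOf_eq_one x
  rwa [h, pow_two] at e

theorem eq_one_odd {G : Type*} [Group G] {x : G} {k : ℕ} (ho : Odd (orderOf x))
    (h : x ^ 2 ^ k = 1) : x = 1 :=
  orderOf_eq_one_iff.1 (Nat.eq_one_of_dvd_coprimes
    (Nat.Coprime.pow_left k (Nat.coprime_two_left.2 ho)) (orderOf_dvd_of_pow_eq_one h) dvd_rfl)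

/-- The 2-part and the odd part of an element, as powers. -/
theorem exists_split (x : G) : ∃ i j k : ℕ, x = x ^ i * x ^ j ∧ (x ^ i) ^ 2 ^ k = 1 ∧
    Odd (orderOf (x ^ j)) := by
  obtain ⟨k, m, hm, hn⟩ := Nat.exists_eq_two_pow_mul_odd (orderOf_pos x).ne'
  have hc : Nat.Coprime m (2 ^ k) := (Nat.Coprime.pow_left k (Nat.coprime_two_left.2 hm)).symm
  obtain ⟨a, ha⟩ := Nat.chineseRemainder hc.symm 1 0
  obtain ⟨b, hb⟩ := Nat.chineseRemainder hc.symm 0 1
  refine ⟨a, b, k, ?_, ?_, ?_⟩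
  · have h1 : a + b ≡ 1 [MOD 2 ^ k] := by simpa using ha.1.add hb.1
    have h2 : a + b ≡ 1 [MOD m] := by simpa using ha.2.add hb.2
    have h12 : a + b ≡ 1 [MOD orderOf x] := hn ▸ (Nat.modEq_and_modEq_iff_modEq_mul hc.symm).1 ⟨h1, h2⟩
    rw [← pow_add, pow_eq_pow_iff_modEq.2 h12, pow_one]
  · rw [← pow_mul, ← orderOf_dvd_iff_pow_eq_one, hn, mul_comm a]
    exact Nat.mul_dvd_mul_left _ (Nat.modEq_zero_iff_dvd.1 ha.2)
  · refine hm.of_dvd_nat (orderOf_dvd_of_pow_eq_one ?_)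
    rw [← pow_mul, ← orderOf_dvd_iff_pow_eq_one, hn]
    exact Nat.mul_dvd_mul_right (Nat.modEq_zero_iff_dvd.1 hb.1) _

/-- A four group of `E₀`. -/
structure Four (E₀ V : Subgroup G) : Prop where
  le : V ≤ E₀
  card : Nat.card V = 4
  sq : ∀ x ∈ V, x * x = 1
  cent : E₀ ⊓ centralizer (V : Set G) ≤ V
  trans : ∀ u ∈ V, u ≠ 1 → ∀ v ∈ V, v ≠ 1 →
    ∃ n ∈ E₀ ⊓ normalizer (V : Set G), n * u * n⁻¹ = v
  sylow : ∃ T : Sylow 2 ↥E₀, V = (T : Subgroup ↥E₀).map E₀.subtype

theorem exists_four {t : G} {E E₀ : Subgroup G} (h : RData t E E₀) : ∃ V, Four E₀ V := by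
  obtain ⟨F, _, _, h5, h8, ⟨i⟩⟩ := h.psl
  obtain ⟨T⟩ : Nonempty (Sylow 2 ↥E₀) := inferInstance
  let T' : Sylow 2 (Matrix.ProjectiveSpecialLinearGroup (Fin 2) F) :=
    T.mapSurjective (f := i.toMonoidHom) i.surjective
  have hmem : ∀ x : ↥E₀, x ∈ (T : Subgroup ↥E₀) → i x ∈ (T' : Subgroup _) :=
    fun x hx => ⟨x, hx, rfl⟩
  have hmem' : ∀ x : ↥E₀, i x ∈ (T' : Subgroup _) → x ∈ (T : Subgroup ↥E₀) := by
    rintro x ⟨y, hy, he⟩
    rwa [← i.injective he]
  have hV : ∀ {x : ↥E₀}, x ∈ (T : Subgroup ↥E₀) → (x : G) ∈ (T : Subgroup ↥E₀).map E₀.subtype :=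
    fun {x} hx => ⟨x, hx, rfl⟩
  refine ⟨(T : Subgroup ↥E₀).map E₀.subtype, map_subtype_le _, ?_, ?_, ?_, ?_, T, rfl⟩
  · rw [card_map_of_injective E₀.subtype_injective,
      ← card_map_of_injective (f := i.toMonoidHom) (K := (T : Subgroup ↥E₀)) i.injective]
    exact H50.Walter.Odd.card_sylow h8 (H50.Walter.Odd.even_card h8) T'
  · rintro _ ⟨x, hx, rfl⟩
    have := H50.Walter.Odd.elem h8 T' _ (hmem x hx)
    rw [← map_mul, ← map_one i] at this
    rw [← map_mul, i.injective this, map_one]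
  · rintro x ⟨hx0, hxc⟩
    refine hV (x := ⟨x, hx0⟩) (hmem' _ (H50.Walter.Odd.selfCent h8 h5 T' (mem_centralizer_iff.2 ?_)))
    rintro _ ⟨y, hy, rfl⟩
    show i y * i _ = i _ * i y
    rw [← map_mul, ← map_mul]
    exact congrArg i (Subtype.ext (mem_centralizer_iff.1 hxc _ (hV hy)))
  · rintro _ ⟨u, hu, rfl⟩ hu1 _ ⟨v, hv, rfl⟩ hv1
    obtain ⟨n, hn, hnu⟩ := H50.Walter.Odd.trans h8 h5 T' (hmem u hu)
      (fun e => hu1 (by rw [i.injective (e.trans (map_one i).symm), map_one]))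
      (hmem v hv) (fun e => hv1 (by rw [i.injective (e.trans (map_one i).symm), map_one]))
    obtain ⟨m, rfl⟩ := i.surjective n
    rw [← map_inv, ← map_mul, ← map_mul] at hnu
    refine ⟨m, ⟨m.2, mem_normalizer_iff.2 fun x => ?_⟩, by rw [← i.injective hnu]; rfl⟩
    constructor
    · rintro ⟨y, hy, rfl⟩
      refine ⟨m * y * m⁻¹, hmem' _ ?_, by simp⟩
      rw [map_mul, map_mul, map_inv]
      exact (mem_normalizer_iff.1 hn _).1 (hmem y hy)
    · rintro ⟨y, hy, he⟩
      have hx : x = ((m⁻¹ * y * m : ↥E₀) : G) := by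
        have he' : (y : G) = (m : G) * x * (m : G)⁻¹ := he
        push_cast
        rw [he']; group
      rw [hx]
      refine hV (hmem' _ ((mem_normalizer_iff.1 hn _).2 ?_))
      rw [← map_inv, ← map_mul, ← map_mul, show m * (m⁻¹ * y * m) * m⁻¹ = y by group]
      exact hmem y hy

variable {t : G} {E E₀ V : Subgroup G}

theorem Four.comm (hV : Four E₀ V) {a b : G} (ha : a ∈ V) (hb : b ∈ V) : Commute a b := by
  have h1 := hV.sq _ (mul_mem ha hb)
  have hai := inv_eq_of_mul_eq_one_right (hV.sq a ha)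
  have hbi := inv_eq_of_mul_eq_one_right (hV.sq b hb)
  show a * b = b * a
  rw [← inv_eq_of_mul_eq_one_right h1, mul_inv_rev, hai, hbi]

/-- The odd elements of `C_E(V)`. -/
def FieldPart (E V : Subgroup G) : Set G :=
  {y | y ∈ E ∧ y ∈ centralizer (V : Set G) ∧ Odd (orderOf y)}

variable (h : RData t E E₀) (h16 : ¬ 16 ∣ Nat.card G) (hV : Four E₀ V)
include h h16 hV

/-- An element of `E` with a power-of-two order centralising `V` lies in `V`. -/
theorem mem_of_two {x : G} (hx : x ∈ E) (hxc : x ∈ centralizer (V : Set G)) {k : ℕ}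
    (hk : x ^ 2 ^ k = 1) : x ∈ V :=
  hV.cent ⟨h.two_element_mem h16 hx hk, hxc⟩

/-- An element of `E` with a power-of-two order normalising `V` lies in `V`. -/
theorem mem_of_two_normalizer {x : G} (hx : x ∈ E) (hxn : x ∈ normalizer (V : Set G)) {k : ℕ}
    (hk : x ^ 2 ^ k = 1) : x ∈ V := by
  have hx0 := h.two_element_mem h16 hx hk
  obtain ⟨T, hT⟩ := hV.sylow
  have hn : (⟨x, hx0⟩ : ↥E₀) ∈ normalizer ((T : Subgroup ↥E₀) : Set ↥E₀) := by
    refine mem_normalizer_iff.2 fun y => ?_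
    have hy : ∀ z : ↥E₀, z ∈ (T : Subgroup ↥E₀) ↔ (z : G) ∈ V := fun z => by
      rw [hT]; exact (mem_map_iff_mem E₀.subtype_injective).symm
    rw [hy, hy]
    exact mem_normalizer_iff.1 hxn _
  have hp : IsPGroup 2 ↥(zpowers (⟨x, hx0⟩ : ↥E₀)) := fun y => by
    obtain ⟨i, hi⟩ := mem_zpowers_iff.1 y.2
    refine ⟨k, Subtype.ext ?_⟩
    rw [Subgroup.coe_pow, Subgroup.coe_one, ← hi, ← zpow_natCast, ← zpow_mul, mul_comm, zpow_mul,
      zpow_natCast, show (⟨x, hx0⟩ : ↥E₀) ^ 2 ^ k = 1 from Subtype.ext hk, one_zpow]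
  have hsup : IsPGroup 2 ↥((zpowers (⟨x, hx0⟩ : ↥E₀)) ⊔ (T : Subgroup ↥E₀) : Subgroup ↥E₀) :=
    hp.to_sup_of_normal_right' T.isPGroup' (zpowers_le.2 hn)
  have := T.is_maximal' hsup le_sup_right
  rw [hT]
  exact ⟨⟨x, hx0⟩, this ▸ mem_sup_left (mem_zpowers _), rfl⟩

theorem mem_V_of_sq {x : G} (hx : x ∈ E) (hxc : x ∈ centralizer (V : Set G)) :
    ∃ v ∈ V, ∃ y ∈ FieldPart E V, x = v * y := by
  obtain ⟨i, j, k, hx', hi, hj⟩ := exists_split x
  exact ⟨x ^ i, mem_of_two h h16 hV (pow_mem hx i) (pow_mem hxc i) hi, x ^ j,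
    ⟨pow_mem hx j, pow_mem hxc j, hj⟩, hx'⟩

theorem field_inf : ∀ y ∈ FieldPart E V, y ∈ E₀ → y = 1 := fun y hy hy0 =>
  eq_one_odd (k := 1) hy.2.2 (by rw [pow_one, pow_two, hV.sq y (hV.cent ⟨hy0, hy.2.1⟩)])

/-- `C_E(V)` is abelian. -/
theorem commute_of_centralizing {x y : G} (hx : x ∈ E) (hxc : x ∈ centralizer (V : Set G))
    (hy : y ∈ E) (hyc : y ∈ centralizer (V : Set G)) : Commute x y := by
  obtain ⟨F, _, _, h5, h8, ⟨i⟩⟩ := h.psl
  haveI := h.normal
  let e : ↥(E₀.subgroupOf E) ≃* Matrix.ProjectiveSpecialLinearGroup (Fin 2) F :=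
    (subgroupOfEquivOfLe h.le).trans i
  let C : Subgroup ↥E := (centralizer (V : Set G)).subgroupOf E
  let ψ : ↥C →* RingAut F := (H4.GW.fieldPartHom e).comp C.subtype
  have hodd : Odd (Fintype.card F) := H50.Walter.Odd.odd_card h8
  have hK : centralizer ((E₀.subgroupOf E : Subgroup ↥E) : Set ↥E) = ⊥ := by
    rw [eq_bot_iff]
    intro z hz
    have : (z : G) ∈ E ⊓ centralizer (E₀ : Set G) := ⟨z.2, mem_centralizer_iff.2 fun w hw =>
      congrArg Subtype.val (mem_centralizer_iff.1 hz ⟨w, h.le hw⟩ (mem_subgroupOf.2 hw))⟩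
    rw [h.cent, mem_bot] at this
    exact mem_bot.2 (Subtype.ext this)
  have hker : ψ.ker ≤ center ↥C := by
    intro z hz
    -- the square lies in `E₀`
    obtain ⟨g, hg⟩ := H4.GW.exists_lin e (y := (z : ↥E)) (MonoidHom.mem_ker.2 (MonoidHom.mem_ker.1 hz))
    have h2 : (z : ↥E) * z ∈ E₀.subgroupOf E := H4.GW.mem_of_det_sq e hK
      (g := g * g) (c := Matrix.GeneralLinearGroup.det g) (by rw [map_mul, hg, map_mul]) (map_mul _ _ _)
    have h4 : ((z : G) * z) * ((z : G) * z) = 1 :=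
      hV.sq _ (hV.cent ⟨mem_subgroupOf.1 h2, mul_mem z.2 z.2⟩)
    have hzV : (z : G) ∈ V :=
      mem_of_two h h16 hV (z : ↥E).2 z.2 (k := 2) (by
        rw [show (2:ℕ) ^ 2 = 2 * 2 by norm_num, pow_mul, pow_two, pow_two, h4])
    refine mem_center_iff.2 fun w => Subtype.ext (Subtype.ext ?_)
    exact (mem_centralizer_iff.1 w.2 _ hzV).symm
  haveI : IsCyclic (RingAut F) := by
    obtain ⟨p, hp, k, hk, hcard⟩ := FiniteField.card' F
    haveI := Fact.mk hk
    obtain ⟨ε⟩ := H56.ringAut_equiv F (show 1 ≤ (k : ℕ) from k.pos) hcard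
    exact isCyclic_of_surjective ε.symm ε.symm.surjective
  haveI : IsCyclic ψ.range := inferInstance
  have hc := commutative_of_cyclic_center_quotient ψ.rangeRestrict
    (by rwa [MonoidHom.ker_rangeRestrict]) (⟨⟨x, hx⟩, hxc⟩ : ↥C) ⟨⟨y, hy⟩, hyc⟩
  exact congrArg Subtype.val (congrArg Subtype.val hc)

/-- The field part as a subgroup. -/
def fieldSub : Subgroup G where
  carrier := FieldPart E V
  one_mem' := ⟨one_mem _, one_mem _, by rw [orderOf_one]; exact odd_one⟩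
  mul_mem' {a b} ha hb := ⟨mul_mem ha.1 hb.1, mul_mem ha.2.1 hb.2.1,
    (ha.2.2.mul hb.2.2).of_dvd_nat
      ((commute_of_centralizing h h16 hV ha.1 ha.2.1 hb.1 hb.2.1).orderOf_mul_dvd_mul_orderOf)⟩
  inv_mem' {a} ha := ⟨inv_mem ha.1, inv_mem ha.2.1, by rw [orderOf_inv]; exact ha.2.2⟩

theorem mem_fieldSub {y : G} : y ∈ fieldSub h h16 hV ↔ y ∈ FieldPart E V := Iff.rfl

theorem fieldSub_le : fieldSub h h16 hV ≤ E ⊓ centralizer (V : Set G) := fun _ hy => ⟨hy.1, hy.2.1⟩

theorem inf_fieldSub : E₀ ⊓ fieldSub h h16 hV = ⊥ := by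
  rw [eq_bot_iff]
  rintro y ⟨hy0, hy⟩
  exact mem_bot.2 (field_inf h h16 hV y hy hy0)

/-- `N_{E₀}(V)` centralises the field part. -/
theorem commute_normalizer {k y : G} (hk : k ∈ E₀) (hkn : k ∈ normalizer (V : Set G))
    (hy : y ∈ fieldSub h h16 hV) : Commute k y := by
  have h1 : k * y * k⁻¹ ∈ fieldSub h h16 hV := by
    refine ⟨mul_mem (mul_mem (h.le hk) hy.1) (inv_mem (h.le hk)), mem_centralizer_iff.2 fun v hv => ?_,
      by rw [show k * y * k⁻¹ = MulAut.conj k y from rfl, MulEquiv.orderOf_eq]; exact hy.2.2⟩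
    have hv' : k⁻¹ * v * k ∈ V := by
      have := (mem_normalizer_iff.1 (inv_mem hkn) v).1 hv
      simpa using this
    have hc : k⁻¹ * v * k * y = y * (k⁻¹ * v * k) := mem_centralizer_iff.1 hy.2.1 _ hv'
    calc v * (k * y * k⁻¹) = k * (k⁻¹ * v * k * y) * k⁻¹ := by group
      _ = k * (y * (k⁻¹ * v * k)) * k⁻¹ := by rw [hc]
      _ = k * y * k⁻¹ * v := by group
  have h2 : k * y * k⁻¹ * y⁻¹ ∈ E₀ := by
    have h3 := h.normal.conj_mem ⟨k⁻¹, h.le (inv_mem hk)⟩ (mem_subgroupOf.2 (inv_mem hk)) ⟨y, hy.1⟩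
    rw [show k * y * k⁻¹ * y⁻¹ = k * (y * k⁻¹ * y⁻¹) by group]
    exact mul_mem hk (mem_subgroupOf.1 h3)
  have h4 := field_inf h h16 hV _ ((fieldSub h h16 hV).mul_mem h1 ((fieldSub h h16 hV).inv_mem hy)) h2
  exact mul_inv_eq_iff_eq_mul.1 (mul_inv_eq_one.1 h4)

/-- An element of `N_E(V)` is an element of `N_{E₀}(V)` times a field part. -/
theorem exists_normalizer_decomp {n : G} (hn : n ∈ E) (hnn : n ∈ normalizer (V : Set G)) :
    ∃ k ∈ E₀ ⊓ normalizer (V : Set G), ∃ y ∈ fieldSub h h16 hV, n = k * y := by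
  have hne : V ≠ ⊥ := fun e => by
    have := hV.card
    rw [e, Subgroup.card_bot] at this
    omega
  obtain ⟨u, hu, hu1⟩ := V.bot_or_exists_ne_one.resolve_left hne
  have hnu : n * u * n⁻¹ ∈ V := (mem_normalizer_iff.1 hnn u).1 hu
  obtain ⟨c, hc, hcu⟩ := hV.trans _ hnu (fun e => hu1 (conj_eq_one_iff.1 e)) u hu hu1
  set m := c * n with hm
  have hmE : m ∈ E := mul_mem (h.le hc.1) hn
  have hmn : m ∈ normalizer (V : Set G) := mul_mem hc.2 hnn
  have hmu : Commute m u := by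
    have h1 : m * u * m⁻¹ = u := by
      rw [hm, show c * n * u * (c * n)⁻¹ = c * (n * u * n⁻¹) * c⁻¹ by group, hcu]
    exact mul_inv_eq_iff_eq_mul.1 h1
  obtain ⟨i, j, k, hm', hi, hj⟩ := exists_split m
  have hw : m ^ i ∈ V := mem_of_two_normalizer h h16 hV (pow_mem hmE i) (pow_mem hmn i) hi
  -- the odd part fixes the other two involutions
  have hodd : m ^ j ∈ centralizer (V : Set G) := by
    set o := m ^ j with ho
    have hon : o ∈ normalizer (V : Set G) := pow_mem hmn j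
    have hou : Commute o u := hmu.pow_left j
    refine mem_centralizer_iff.2 fun v hv => ?_
    by_cases hv1 : v = 1
    · simp [hv1]
    by_cases hvu : v = u
    · rw [hvu]; exact hou.eq.symm
    have hcases : ∀ a ∈ V, a ≠ 1 → a ≠ u → a = v ∨ a = u * v := by
      intro a ha ha1 hau
      by_contra hcon
      push Not at hcon
      have huv : u * v ≠ 1 := fun e => hvu (by
        rw [← inv_eq_of_mul_eq_one_right e, inv_eq_of_mul_eq_one_right (hV.sq u hu)])
      have hd : ({1, u, v, u * v, a} : Set G).ncard = 5 := by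
        rw [Set.ncard_insert_of_notMem (by simp [Ne.symm hu1, Ne.symm hv1, huv.symm, Ne.symm ha1]),
          Set.ncard_insert_of_notMem (by
            simp [Ne.symm hvu, Ne.symm hau, hv1]),
          Set.ncard_insert_of_notMem (by simp [hu1, hcon.1.symm]),
          Set.ncard_insert_of_notMem (by simp [hcon.2.symm]), Set.ncard_singleton]
      have hle : ({1, u, v, u * v, a} : Set G) ⊆ (V : Set G) := by
        rintro z (rfl | rfl | rfl | rfl | rfl)
        exacts [one_mem _, hu, hv, mul_mem hu hv, ha]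
      have := Set.ncard_le_ncard hle
      rw [hd, ← Nat.card_coe_set_eq, SetLike.coe_sort_coe, hV.card] at this
      omega
    have hov : o * v * o⁻¹ ∈ V := (mem_normalizer_iff.1 hon v).1 hv
    rcases hcases _ hov (fun e => hv1 (conj_eq_one_iff.1 e)) (fun e => hvu (by
        have e' : v = o⁻¹ * u * o := by rw [← e]; group
        rw [e', mul_assoc, ← hou.eq, inv_mul_cancel_left])) with e | e
    · exact (mul_inv_eq_iff_eq_mul.1 e).symm
    · exfalso
      -- an involution on the pair, impossible for odd order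
      have h2 : Commute (o * o) v := by
        have hau : o * u * o⁻¹ = u := by rw [hou.eq, mul_inv_cancel_right]
        show o * o * v = v * (o * o)
        have : o * o * v * (o * o)⁻¹ = v := by
          calc o * o * v * (o * o)⁻¹ = o * (o * v * o⁻¹) * o⁻¹ := by group
            _ = o * (u * v) * o⁻¹ := by rw [e]
            _ = o * u * o⁻¹ * (o * v * o⁻¹) := by group
            _ = u * (u * v) := by rw [hau, e]
            _ = v := by rw [← mul_assoc, hV.sq u hu, one_mul]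
        exact mul_inv_eq_iff_eq_mul.1 this
      obtain ⟨l, hl⟩ := hj
      have hoc : Commute o v := by
        have : o = (o * o) ^ (l + 1) := by
          rw [← pow_two, ← pow_mul, show 2 * (l + 1) = (2 * l + 1) + 1 by ring, pow_succ, ← hl,
            pow_orderOf_eq_one, one_mul]
        rw [this]
        exact h2.pow_left _
      rw [hoc.eq, mul_inv_cancel_right] at e
      exact hu1 (right_eq_mul.1 e)
  have hy : m ^ j ∈ fieldSub h h16 hV := ⟨pow_mem hmE j, hodd, hj⟩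
  refine ⟨c⁻¹ * m ^ i, ⟨mul_mem (E₀.inv_mem hc.1) (hV.le hw), mul_mem ((normalizer (V : Set G)).inv_mem hc.2) (pow_mem hmn i)⟩,
    m ^ j, hy, ?_⟩
  rw [mul_assoc, ← hm', hm, inv_mul_cancel_left]

/-- `E = E₀ Φ`. -/
theorem sup_fieldSub : E₀ ⊔ fieldSub h h16 hV = E := by
  refine le_antisymm (sup_le h.le ((fieldSub_le h h16 hV).trans inf_le_left)) fun x hx => ?_
  haveI := h.normal
  obtain ⟨T, hT⟩ := hV.sylow
  let T' : Sylow 2 ↥(E₀.subgroupOf E) :=
    T.mapSurjective (f := (subgroupOfEquivOfLe h.le).symm.toMonoidHom) (subgroupOfEquivOfLe h.le).symm.surjective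
  have hVT : (((T' : Subgroup ↥(E₀.subgroupOf E)).map (E₀.subgroupOf E).subtype : Subgroup ↥E)) =
      V.subgroupOf E := by
    ext z
    rw [mem_subgroupOf, hT]
    constructor
    · rintro ⟨a, ⟨b, hb, rfl⟩, rfl⟩
      exact ⟨b, hb, rfl⟩
    · rintro ⟨b, hb, hbz⟩
      exact ⟨_, ⟨b, hb, rfl⟩, Subtype.ext hbz⟩
  have hsup := Sylow.normalizer_sup_eq_top T'
  rw [hVT] at hsup
  have hmem : (⟨x, hx⟩ : ↥E) ∈ normalizer ((V.subgroupOf E : Subgroup ↥E) : Set ↥E) ⊔ E₀.subgroupOf E :=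
    hsup ▸ mem_top _
  rw [← SetLike.mem_coe, Subgroup.mul_normal] at hmem
  obtain ⟨n, hn, a, ha, hna⟩ := hmem
  have hnn : (n : G) ∈ normalizer (V : Set G) := by
    refine mem_normalizer_iff.2 fun v => ⟨fun hv => ?_, fun hv => ?_⟩
    · have := (mem_normalizer_iff.1 hn ⟨v, h.le (hV.le hv)⟩).1 (mem_subgroupOf.2 hv)
      exact mem_subgroupOf.1 this
    · have hvE : v ∈ E := by
        have := mul_mem (mul_mem (inv_mem n.2) (h.le (hV.le hv))) n.2
        simpa [mul_assoc] using this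
      have := (mem_normalizer_iff.1 hn ⟨v, hvE⟩).2 (mem_subgroupOf.2 hv)
      exact mem_subgroupOf.1 this
  obtain ⟨k, hk, y, hy, hny⟩ := exists_normalizer_decomp h h16 hV n.2 hnn
  have hx' : x = k * y * (a : G) := by
    have := congrArg Subtype.val hna
    simp only [Subgroup.coe_mul, hny] at this
    exact this.symm
  rw [hx']
  exact mul_mem (mul_mem (mem_sup_left hk.1) (mem_sup_right hy))
    (mem_sup_left (mem_subgroupOf.1 ha))

/-- The field part is cyclic. -/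
theorem isCyclic_fieldSub : IsCyclic ↥(fieldSub h h16 hV) := by
  obtain ⟨F, _, _, h5, h8, ⟨i⟩⟩ := h.psl
  haveI := h.normal
  let e : ↥(E₀.subgroupOf E) ≃* Matrix.ProjectiveSpecialLinearGroup (Fin 2) F :=
    (subgroupOfEquivOfLe h.le).trans i
  have hK : centralizer ((E₀.subgroupOf E : Subgroup ↥E) : Set ↥E) = ⊥ := by
    rw [eq_bot_iff]
    intro z hz
    have : (z : G) ∈ E ⊓ centralizer (E₀ : Set G) := ⟨z.2, mem_centralizer_iff.2 fun w hw =>
      congrArg Subtype.val (mem_centralizer_iff.1 hz ⟨w, h.le hw⟩ (mem_subgroupOf.2 hw))⟩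
    rw [h.cent, mem_bot] at this
    exact mem_bot.2 (Subtype.ext this)
  let ψ : ↥(fieldSub h h16 hV) →* RingAut F :=
    (H4.GW.fieldPartHom e).comp (inclusion ((fieldSub_le h h16 hV).trans inf_le_left))
  have hinj : Function.Injective ψ := by
    refine (injective_iff_map_eq_one ψ).2 fun z hz => ?_
    obtain ⟨g, hg⟩ := H4.GW.exists_lin e
      (y := inclusion ((fieldSub_le h h16 hV).trans inf_le_left) z) (MonoidHom.mem_ker.2 hz)
    have h2 := H4.GW.mem_of_det_sq e hK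
      (y := inclusion ((fieldSub_le h h16 hV).trans inf_le_left) z *
        inclusion ((fieldSub_le h h16 hV).trans inf_le_left) z)
      (g := g * g) (c := Matrix.GeneralLinearGroup.det g) (by rw [map_mul, hg, map_mul]) (map_mul _ _ _)
    have h3 := field_inf h h16 hV _ ((fieldSub h h16 hV).mul_mem z.2 z.2) (mem_subgroupOf.1 h2)
    exact Subtype.ext (eq_one_odd (k := 1) z.2.2.2 (by rw [pow_one, pow_two]; exact h3))
  haveI : IsCyclic (RingAut F) := by
    obtain ⟨p, hp, k, hk, hcard⟩ := FiniteField.card' F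
    haveI := Fact.mk hk
    obtain ⟨ε⟩ := H56.ringAut_equiv F (show 1 ≤ (k : ℕ) from k.pos) hcard
    exact isCyclic_of_surjective ε.symm ε.symm.surjective
  exact isCyclic_of_injective ψ hinj

end Cfsg.Agent.H97.TypeR
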